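import Groth.Agent.SGAQuot20.Artin
import Groth.Agent.FpqcDescLib.Group

/-!
# The quotient by a normal subgroup is a group
-/

set_option backward.isDefEq.respectTransparency false
set_option backward.isDefEq.respectTransparency.types false

universe u

open CategoryTheory MonoidalCategory CartesianMonoidalCategory MonObj GrpObj AlgebraicGeometry

noncomputable section

namespace Groth.Agent.SGAQuot20

variable {S : Scheme.{u}} {F G Q : Over S} [GrpObj F] [GrpObj G] {u : F ⟶ G} [IsMonHom u] {p : G ⟶ Q}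

theorem comp_eq_iff (hsq : IsPullback ((u ▷ G) ≫ μ[G]) (snd F G) p p) {T : Over S} (a b : T ⟶ G) :
    a ≫ p = b ≫ p ↔ ∃ h : T ⟶ F, a = (h ≫ u) * b := by
  constructor
  · intro e
    refine ⟨hsq.lift a b e ≫ fst F G, ?_⟩
    refine (hsq.lift_fst a b e).symm.trans (Eq.trans ?_
      (congrArg ((hsq.lift a b e ≫ fst F G) ≫ u * ·) (hsq.lift_snd a b e)))
    rw [Hom.mul_def, ← Category.assoc]
    congr 1
    apply CartesianMonoidalCategory.hom_ext <;> simp
  · rintro ⟨h, rfl⟩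
    have := congrArg (lift h b ≫ ·) hsq.w
    simpa [Hom.mul_def, lift_whiskerRight] using this

theorem isCosetMap (hsq : IsPullback ((u ▷ G) ≫ μ[G]) (snd F G) p p) (hn : AlgGrp.IsNormalHom u) :
    FpqcDescLib.IsCosetMap u p := fun T a b => by
  rw [comp_eq_iff hsq]
  constructor
  · rintro ⟨h, rfl⟩
    obtain ⟨n, hn⟩ := hn T b⁻¹ h⁻¹
    refine ⟨n, ?_⟩
    rw [← hn, GrpObj.inv_comp]
    group
  · rintro ⟨h, rfl⟩
    obtain ⟨n, hn⟩ := hn T a h⁻¹
    refine ⟨n, ?_⟩
    rw [← hn, GrpObj.inv_comp]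
    group

theorem isKernel [Mono u] (hsq : IsPullback ((u ▷ G) ≫ μ[G]) (snd F G) p p) [GrpObj Q] [IsMonHom p] :
    AlgGrp.IsKernel u p := by
  have h1 : ∀ {T : Over S}, toUnit T ≫ η[Q] = (1 : T ⟶ G) ≫ p := fun {T} => by
    rw [Hom.one_def, Category.assoc, IsMonHom.one_hom]
  have hu : u ≫ p = toUnit F ≫ η[Q] := by
    rw [h1, comp_eq_iff hsq]
    exact ⟨𝟙 F, by rw [Category.id_comp, _root_.mul_one]⟩
  have hex : ∀ c : Limits.PullbackCone p η[Q], ∃ h, h ≫ u = c.fst := fun c => by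
    obtain ⟨h, hh⟩ := (comp_eq_iff hsq c.fst 1).mp (by
      rw [c.condition, ← h1, toUnit_unique (toUnit c.pt) c.snd])
    exact ⟨h, by rw [hh, _root_.mul_one]⟩
  exact ⟨⟨hu⟩, ⟨Limits.PullbackCone.IsLimit.mk _ (fun c => (hex c).choose) (fun c => (hex c).choose_spec)
    (fun c => toUnit_unique _ _) (fun c m h₁ _ => (cancel_mono u).mp (h₁.trans (hex c).choose_spec.symm))⟩⟩

variable {A : Type u} [CommRing A] [IsArtinianRing A] [IsLocalRing A]

theorem exists_quotient_normal {F G : Over (Spec (CommRingCat.of A))} [GrpObj F] [GrpObj G] (u : F ⟶ G)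
    [IsMonHom u] [Mono u] [QuasiCompact u.left] [Flat F.hom] [LocallyOfFiniteType F.hom]
    [LocallyOfFiniteType G.hom] (hn : AlgGrp.IsNormalHom u) :
    ∃ (Q : Over (Spec (CommRingCat.of A))) (_ : GrpObj Q) (p : G ⟶ Q), IsMonHom p ∧
      Surjective p.left ∧ Flat p.left ∧ LocallyOfFinitePresentation p.left ∧ AlgGrp.IsKernel u p ∧
      FpqcDescLib.IsCosetMap u p ∧
      IsSeparated Q.hom ∧ LocallyOfFiniteType Q.hom ∧
      (Flat G.hom → Flat Q.hom) ∧ (QuasiCompact G.hom → QuasiCompact Q.hom) ∧ (Smooth G.hom → Smooth Q.hom) := by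
  obtain ⟨X, p, h1, h2, h3, h4, h5, hsq, h7, h8, h9⟩ := exists_quotient_artin u
  have hp : FpqcDescLib.Covers p.left :=
    FpqcDescLib.covers_of_isCovering (FpqcDescLib.isCovering_of_lfp p.left)
  have hc := isCosetMap hsq hn
  obtain ⟨s, hs⟩ := FpqcDescLib.exists_grpObj hp hc hn
  exact ⟨X, s, p, hs, h3, h4, h5, (letI := s; letI := hs; isKernel hsq), hc, h1, h2, h7, h8, h9⟩

end Groth.Agent.SGAQuot20
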