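import Groth.Agent.SGAQuot20.Chart0
import Groth.Agent.H23.LocNoethTop
import Mathlib.AlgebraicGeometry.Morphisms.Finite

/-!
# Quotients of groups locally of finite type over a field by closed subgroups
-/

set_option backward.isDefEq.respectTransparency false
set_option backward.isDefEq.respectTransparency.types false

universe u

open CategoryTheory MonoidalCategory CartesianMonoidalCategory MonObj GrpObj AlgebraicGeometry
open Groth.Agent.GrpSchLib (IsMaxPt)

noncomputable section

namespace Groth.Agent.SGAQuot20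

variable {k : Type u} [Field k]

variable {F G : Over (Spec (CommRingCat.of k))} [GrpObj F] [GrpObj G]

/-- Right translation of the first factor by a point with values in the second. -/
def rShear {T : Over (Spec (CommRingCat.of k))} (p : T ⟶ G) : G ⊗ T ≅ G ⊗ T where
  hom := lift (fst G T * (snd G T ≫ p)⁻¹) (snd G T)
  inv := lift (fst G T * (snd G T ≫ p)) (snd G T)
  hom_inv_id := by
    apply CartesianMonoidalCategory.hom_ext
    · simp [MonObj.comp_mul]
    · simp
  inv_hom_id := by
    apply CartesianMonoidalCategory.hom_ext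
    · simp [MonObj.comp_mul, GrpObj.comp_inv]
    · simp

omit [GrpObj G] in
theorem isFinite_residue [LocallyOfFiniteType G.hom] {x : G.left} (hx : IsClosed ({x} : Set G.left)) :
    IsFinite (G.left.fromSpecResidueField x ≫ G.hom) := by
  have : JacobsonSpace G.left := LocallyOfFiniteType.jacobsonSpace G.hom
  have := isClosed_singleton_iff_isClosedImmersion.mp hx
  exact (isFinite_iff_locallyOfFiniteType_of_jacobsonSpace (f := G.left.fromSpecResidueField x ≫ G.hom)).mpr
    inferInstance

theorem locallyConnectedSpace (X : Scheme.{u}) [IsLocallyNoetherian X] : LocallyConnectedSpace X :=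
  H23.LocNoethTop.locallyConnectedSpace fun y => by
    obtain ⟨A, hA, hyA, -⟩ := exists_isAffineOpen_mem_and_subset (show y ∈ (⊤ : X.Opens) from trivial)
    have : IsNoetherianRing Γ(X, A) := IsLocallyNoetherian.component_noetherian ⟨A, hA⟩
    exact ⟨A, A.2.mem_nhds hyA, noetherianSpace_of_isAffineOpen A hA⟩

theorem isMaxPt_of_finite {X Y : Scheme.{u}} (f : X ⟶ Y) [IsFinite f] {z : X}
    (h : IsMaxPt (f z)) : IsMaxPt z := by
  intro d hd
  exact (f.isDiscrete_preimage_singleton (f z)).eq_of_specializes hd (h _ (hd.map f.continuous)) rfl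

/-- A point `y` such that translating the whole fibre over `x` by `y` lands in `W`. -/
theorem exists_translate [LocallyOfFiniteType G.hom] {x ξ : G.left} (hx : IsClosed ({x} : Set G.left))
    (hξ : IsMaxPt ξ) (hxξ : connectedComponent x = closure {ξ}) (W : G.left.Opens) (hW : ξ ∈ W) :
    ∃ y : G.left, IsClosed ({y} : Set G.left) ∧
      ∀ w : (G ⊗ G).left, (fst G G).left w = x → (snd G G).left w = y → μ[G].left w ∈ W := by
  have : JacobsonSpace G.left := LocallyOfFiniteType.jacobsonSpace G.hom
  have : IsLocallyNoetherian G.left := LocallyOfFiniteType.isLocallyNoetherian G.hom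
  let T : Over (Spec (CommRingCat.of k)) := Over.mk (G.left.fromSpecResidueField x ≫ G.hom)
  let px : T ⟶ G := Over.homMk (G.left.fromSpecResidueField x) rfl
  have : IsFinite T.hom := isFinite_residue hx
  let μx : T ⊗ G ⟶ G := (px ▷ G) ≫ μ[G]
  let pr : T ⊗ G ⟶ G := snd T G
  have : IsFinite pr.left := MorphismProperty.pullback_snd (P := @IsFinite) T.hom G.hom ‹_›
  have : Flat pr.left := MorphismProperty.pullback_snd (P := @Flat) T.hom G.hom inferInstance
  have : LocallyOfFinitePresentation pr.left :=
    MorphismProperty.pullback_snd (P := @LocallyOfFinitePresentation) T.hom G.hom inferInstance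
  have : LocallyOfFiniteType (T ⊗ G).hom := by
    rw [← Over.w pr]
    infer_instance
  have : IsLocallyNoetherian (T ⊗ G).left := LocallyOfFiniteType.isLocallyNoetherian (T ⊗ G).hom
  have : LocallyConnectedSpace (T ⊗ G).left := locallyConnectedSpace _
  let B : Set G.left := pr.left '' (μx.left ⁻¹' (W : Set G.left)ᶜ)
  have hB : IsClosed B := pr.left.isClosedMap _ (W.isOpen.isClosed_compl.preimage μx.left.continuous)
  obtain ⟨g₀, hg₀, hg₀e⟩ := GrpSchLib.exists_isMaxPt (η[G].left (IsLocalRing.closedPoint k))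
  have hμx : GeneralizingMap μx.left := by
    have : Flat μx.left := GrpSchLib.flat_whiskerRight_mul px
    exact Flat.generalizingMap μx.left
  have hnot : g₀ ∉ B := by
    rintro ⟨z, hzW, hz⟩
    apply hzW
    have hzmax : IsMaxPt z := by
      refine isMaxPt_of_finite pr.left ?_
      rw [hz]
      exact hg₀
    have hμmax : IsMaxPt (μx.left z) := hzmax.map hμx
    -- the component of `z` contains a point over the unit
    let K := connectedComponent z
    have hKo : IsOpen (pr.left '' K) := pr.left.isOpenMap _ isOpen_connectedComponent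
    have hKc : IsClosed (pr.left '' K) := pr.left.isClosedMap _ isClosed_connectedComponent
    have hsub : connectedComponent g₀ ⊆ pr.left '' K :=
      IsClopen.connectedComponent_subset ⟨hKc, hKo⟩ ⟨z, mem_connectedComponent, hz⟩
    obtain ⟨z₁, hz₁K, hz₁⟩ : η[G].left (IsLocalRing.closedPoint k) ∈ pr.left '' K :=
      hsub (by rw [GrpSchLib.connectedComponent_eq_closure hg₀ specializes_rfl]; exact hg₀e.mem_closure)
    have hxz₁ : μx.left z₁ = x := by
      let sec : T ⟶ T ⊗ G := lift (𝟙 T) 1
      have hsq : IsPullback (T ◁ η[G]).left (snd T (𝟙_ _)).left pr.left η[G].left :=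
        isPullback_whiskerLeft_left T η[G]
      obtain ⟨p, hp, -⟩ := Scheme.exists_preimage_of_isPullback hsq z₁ (IsLocalRing.closedPoint k) hz₁
      have e : (T ◁ η[G]) ≫ μx = fst T _ ≫ px := by
        simp only [μx]
        rw [← Category.assoc, whisker_exchange, Category.assoc, MonObj.mul_one]
        simp [rightUnitor_hom]
      have := congrArg (fun φ => φ.left p) e
      simp only [Over.comp_left, Scheme.Hom.comp_apply] at this
      rw [hp] at this
      rw [this]
      have hr : (fst T (𝟙_ (Over (Spec (CommRingCat.of k))))).left p ∈ (Set.univ : Set T.left) := trivial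
      show G.left.fromSpecResidueField x _ = x
      exact Scheme.fromSpecResidueField_apply x _
    have hcomp : μx.left z ∈ connectedComponent x := by
      rw [← hxz₁]
      exact (isPreconnected_connectedComponent.image _ μx.left.continuous.continuousOn).subset_connectedComponent
        ⟨z₁, hz₁K, rfl⟩ ⟨z, mem_connectedComponent, rfl⟩
    rw [hxξ] at hcomp
    rw [hμmax ξ (specializes_iff_mem_closure.mpr hcomp) |>.symm]
    exact hW
  obtain ⟨y, hy, hyc⟩ := nonempty_inter_closedPoints (Z := Bᶜ) ⟨g₀, hnot⟩ hB.isOpen_compl.isLocallyClosed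
  refine ⟨y, hyc, fun w hw₁ hw₂ => ?_⟩
  obtain ⟨z, hz, -⟩ := Scheme.exists_preimage_of_isPullback (isPullback_whiskerRight_left px G) w
    (IsLocalRing.closedPoint (G.left.residueField x)) (by
      rw [hw₁]; exact (Scheme.fromSpecResidueField_apply x _).symm)
  by_contra hc
  refine hy ⟨z, ?_, ?_⟩
  · show μx.left z ∉ W
    rw [Over.comp_left, Scheme.Hom.comp_apply, hz]
    exact hc
  · rw [← hw₂, ← hz, ← Scheme.Hom.comp_apply, ← Over.comp_left, whiskerRight_snd]

/-- Restricting a composite with two isomorphisms in it. -/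
theorem property_restrict_comp (P : MorphismProperty Scheme.{u}) [P.IsStableUnderComposition]
    (hiso : ∀ {X Y : Scheme.{u}} (f : X ⟶ Y) [IsIso f], P f) {A B C C' D : Scheme.{u}}
    (a : A ⟶ B) [IsIso a] (b : B ⟶ C) (c : C ⟶ C') [IsIso c] (d : C' ⟶ D) (O : D.Opens)
    (V : C.Opens) (hV : c ⁻¹ᵁ (d ⁻¹ᵁ O) = V) (hb : P (b ∣_ V)) (hd : P (d ∣_ O)) :
    P (((a ≫ b) ≫ c ≫ d) ∣_ O) := by
  subst hV
  simp only [morphismRestrict_comp]
  exact P.comp_mem _ _ (P.comp_mem _ _ (hiso _) hb) (P.comp_mem _ _ (hiso _) hd)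

variable (u : F ⟶ G) [IsMonHom u]

set_option maxHeartbeats 1600000 in
/-- Around every closed point there is an invariant open with a quotient. -/
theorem exists_quotData_at [Mono u] [IsSeparated F.hom] [QuasiCompact u.left] [LocallyOfFiniteType F.hom]
    [LocallyOfFiniteType G.hom] {x : G.left} (hx : IsClosed ({x} : Set G.left)) :
    ∃ O : G.left.Opens, x ∈ O ∧ Nonempty (GrpdThick.QuotData (lgpd u) O) := by
  obtain ⟨U, g, W, ξ, hU, hUft, hW, hξW, hξ, hxξ, hflat, hlfp, hfin, hsurj⟩ := exists_chart u x
  obtain ⟨y, hy, hxy⟩ := exists_translate hx hξ hxξ W hξW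
  let T : Over (Spec (CommRingCat.of k)) := Over.mk (G.left.fromSpecResidueField y ≫ G.hom)
  let p : T ⟶ G := Over.homMk (G.left.fromSpecResidueField y) rfl
  have : IsFinite T.hom := isFinite_residue hy
  have : Flat T.hom := inferInstance
  have : LocallyOfFinitePresentation T.hom := inferInstance
  have : Nonempty T.left := ⟨(IsLocalRing.closedPoint (G.left.residueField y) : Spec (G.left.residueField y))⟩
  have : Surjective T.hom := ⟨Function.surjective_to_subsingleton (β := (Spec (CommRingCat.of k))) _⟩
  -- the points whose translates by `y` lie in `W`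
  let π : G ⊗ T ⟶ G := fst G T
  let θ : G ⊗ T ⟶ G := (G ◁ p) ≫ μ[G]
  have : IsFinite π.left := MorphismProperty.pullback_fst (P := @IsFinite) G.hom T.hom ‹_›
  have : Flat π.left := MorphismProperty.pullback_fst (P := @Flat) G.hom T.hom ‹_›
  have : LocallyOfFinitePresentation π.left :=
    MorphismProperty.pullback_fst (P := @LocallyOfFinitePresentation) G.hom T.hom ‹_›
  have : Surjective π.left := MorphismProperty.pullback_fst (P := @Surjective) G.hom T.hom ‹_›
  let A : Set G.left := π.left '' (θ.left ⁻¹' (W : Set G.left)ᶜ)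
  let O : G.left.Opens :=
    ⟨Aᶜ, (π.left.isClosedMap _ (W.isOpen.isClosed_compl.preimage θ.left.continuous)).isOpen_compl⟩
  have hxO : x ∈ O := by
    rintro ⟨z, hz, hzx⟩
    apply hz
    show θ.left z ∈ W
    rw [Over.comp_left, Scheme.Hom.comp_apply]
    refine hxy _ ?_ ?_
    · rw [← Scheme.Hom.comp_apply, ← Over.comp_left, whiskerLeft_fst]
      exact hzx
    · rw [← Scheme.Hom.comp_apply, ← Over.comp_left, whiskerLeft_snd, Over.comp_left, Scheme.Hom.comp_apply]
      exact Scheme.fromSpecResidueField_apply y _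
  have hO : GrpdLib.IsInv (lgpd u) O := by
    refine GrpdLib.isInv_of_mem (G := lgpd u) fun r hr => ?_
    rintro ⟨z, hz, hzr⟩
    obtain ⟨r', hr'₁, hr'₂⟩ := Scheme.exists_preimage_of_isPullback
      (isPullback_whiskerRight_left (leftAct u).act T) z r hzr
    refine hr ⟨((snd F G) ▷ T).left r', ?_, ?_⟩
    · let ρ : (F ⊗ G) ⊗ T ⟶ F ⊗ G := lift (fst _ T ≫ fst F G) (((snd F G) ▷ T) ≫ θ)
      have h₁ : ρ ≫ snd F G = ((snd F G) ▷ T) ≫ θ := lift_snd _ _
      have h₂ : ρ ≫ (leftAct u).act = ((leftAct u).act ▷ T) ≫ θ := by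
        have hθ : θ = fst G T * (snd G T ≫ p) := by
          rw [Hom.mul_def]
          simp only [θ]
          congr 1
        have hmul : fst (F ⊗ G) T ≫ (leftAct u).act =
            (fst (F ⊗ G) T ≫ fst F G ≫ u) * (fst (F ⊗ G) T ≫ snd F G) := act_apply u _
        rw [act_apply, lift_fst_assoc, lift_snd, hθ, MonObj.comp_mul, MonObj.comp_mul, whiskerRight_fst,
          whiskerRight_fst, whiskerRight_snd_assoc, whiskerRight_snd_assoc, hmul, Category.assoc,
          _root_.mul_assoc]
      intro hWz
      apply hz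
      show θ.left z ∈ W
      have e₁ := congrArg (fun φ => φ.left r') h₁
      have e₂ := congrArg (fun φ => φ.left r') h₂
      simp only [Over.comp_left, Scheme.Hom.comp_apply] at e₁ e₂
      rw [hr'₁] at e₂
      rw [← e₂]
      exact (hW.mem_iff (ρ.left r')).1 (by rw [show (lgpd u).s (ρ.left r') = _ from e₁]; exact hWz)
    · show π.left _ = _
      rw [← Scheme.Hom.comp_apply, ← Over.comp_left, whiskerRight_fst, Over.comp_left, Scheme.Hom.comp_apply,
        hr'₂]
      rfl
  -- the translated chart
  let g₁ : U ⊗ T ⟶ G := (fst U T ≫ g) * (snd U T ≫ p)⁻¹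
  have : IsAffine (U ⊗ T).left := by
    have : IsAffine T.left := isAffine_of_isAffineHom T.hom
    have : IsAffine U.left := hU
    exact inferInstanceAs (IsAffine (Limits.pullback U.hom T.hom))
  let φ := srcPhi u g
  let τ : G ⊗ T ≅ G ⊗ T := rShear p
  have : IsIso τ.hom.left := ((Over.forget (Spec (CommRingCat.of k))).mapIso τ).isIso_hom
  have hcomp : srcPhi u g₁ = ((α_ F U T).inv ≫ (φ ▷ T)) ≫ τ.hom ≫ π := by
    simp only [π, τ, rShear, lift_fst, φ, g₁]
    rw [MonObj.comp_mul, GrpObj.comp_inv, Category.assoc, Category.assoc, whiskerRight_fst,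
      whiskerRight_snd_assoc]
    simp [srcPhi, MonObj.comp_mul, GrpObj.comp_inv, _root_.mul_assoc]
  let V : (G ⊗ T).left.Opens := τ.hom.left ⁻¹ᵁ (π.left ⁻¹ᵁ O)
  have hV : V ≤ (fst G T).left ⁻¹ᵁ W := by
    intro v hv
    by_contra hc
    refine hv ⟨τ.hom.left v, ?_, rfl⟩
    have e : τ.hom ≫ θ = fst G T := by
      have hθ : θ = fst G T * (snd G T ≫ p) := by
        rw [Hom.mul_def]
        simp only [θ]
        congr 1
      simp [hθ, τ, rShear, MonObj.comp_mul]
    show θ.left (τ.hom.left v) ∉ W
    rw [← Scheme.Hom.comp_apply, ← Over.comp_left, e]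
    exact hc
  obtain ⟨e, he⟩ := exists_srcPhi_iso u g₁
  have hisoα : IsIso (α_ F U T).inv.left :=
    ((Over.forget (Spec (CommRingCat.of k))).mapIso (α_ F U T)).isIso_inv
  have he' : GrpdLib.srcMap (lgpd u) g₁.left =
      e.hom ≫ ((α_ F U T).inv.left ≫ (φ ▷ T).left) ≫ τ.hom.left ≫ π.left := by
    rw [← he, hcomp, Over.comp_left, Over.comp_left, Over.comp_left]
  have hsqφ := isPullback_whiskerRight_left φ T
  have key : ∀ (P : MorphismProperty Scheme.{u}) [P.IsStableUnderBaseChange] [P.IsStableUnderComposition]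
      [IsZariskiLocalAtTarget P], (∀ {X Y : Scheme.{u}} (f : X ⟶ Y) [IsIso f], P f) →
      P (φ.left ∣_ W) → P π.left → P (GrpdLib.srcMap (lgpd u) g₁.left ∣_ O) := by
    intro P _ _ _ hiso hφ hπ
    have h1 : P ((φ ▷ T).left ∣_ V) :=
      property_restrict_of_le P _ hV (property_restrict_of_isPullback P hsqφ.flip hφ)
    have h2 : P (π.left ∣_ O) := IsZariskiLocalAtTarget.restrict hπ O
    rw [he', morphismRestrict_comp]
    exact P.comp_mem _ _ (hiso _) (property_restrict_comp P hiso _ _ _ _ O V rfl h1 h2)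
  have hs : Flat (lgpd u).s := property_s u @Flat inferInstance
  have ht : Flat (lgpd u).t := property_t u @Flat inferInstance
  have hsl : LocallyOfFinitePresentation (lgpd u).s := property_s u @LocallyOfFinitePresentation inferInstance
  have htl : LocallyOfFinitePresentation (lgpd u).t := property_t u @LocallyOfFinitePresentation inferInstance
  have : Mono (lgpd u).j := mono_j u
  have := key @IsFinite (fun f _ => inferInstance) hfin ‹_›
  have := key @Flat (fun f _ => inferInstance) (IsZariskiLocalAtTarget.restrict hflat W) ‹_›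
  have := key @LocallyOfFinitePresentation (fun f _ => inferInstance) (IsZariskiLocalAtTarget.restrict hlfp W) ‹_›
  have := key @Surjective (fun f _ => inferInstance) hsurj ‹_›
  exact ⟨O, hxO, exists_quotData_of_chartOver (lgpd u) O hO g₁.left⟩

/-- The quotient of a group locally of finite type over a field by a subgroup. -/
theorem exists_quotient [Mono u] [IsSeparated F.hom] [QuasiCompact u.left] [LocallyOfFiniteType F.hom]
    [LocallyOfFiniteType G.hom] :
    ∃ (Y : Scheme.{u}) (p : G.left ⟶ Y),
      Surjective p ∧ Flat p ∧ LocallyOfFinitePresentation p ∧ IsPullback (lgpd u).t (lgpd u).s p p := by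
  have : Mono (lgpd u).j := mono_j u
  have : JacobsonSpace G.left := LocallyOfFiniteType.jacobsonSpace G.hom
  let 𝒪 : Set G.left.Opens := {O | Nonempty (GrpdThick.QuotData (lgpd u) O)}
  refine GrpdThick.exists_quotient_of_cover (lgpd u) fun x => ?_
  by_contra hc
  push Not at hc
  let Z : Set G.left := (⋃ O ∈ 𝒪, (O : Set G.left))ᶜ
  have hxZ : x ∈ Z := fun h => by
    obtain ⟨O, hO, hxO⟩ := Set.mem_iUnion₂.mp h
    exact (hc O hxO).false hO.some
  have hZ : IsClosed Z := (isOpen_biUnion fun O _ => O.isOpen).isClosed_compl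
  have : JacobsonSpace (lgpd u).U := LocallyOfFiniteType.jacobsonSpace G.hom
  obtain ⟨y, hyZ, hy⟩ := nonempty_inter_closedPoints ⟨x, hxZ⟩ hZ.isLocallyClosed
  obtain ⟨O, hyO, hO⟩ := exists_quotData_at u hy
  exact hyZ (Set.mem_iUnion₂.mpr ⟨O, hO, hyO⟩)

end Groth.Agent.SGAQuot20
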