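import Groth.Agent.SGAQuot20.Normal
import Groth.Agent.GrpSchLib.KernelGrp
import Groth.Agent.GrpSchLib.HomKer

/-!
# Factorisation of homomorphisms of groups through quotients by kernels
-/

set_option backward.isDefEq.respectTransparency false
set_option backward.isDefEq.respectTransparency.types false

universe u

open CategoryTheory MonoidalCategory CartesianMonoidalCategory MonObj GrpObj AlgebraicGeometry

noncomputable section

namespace Groth.Agent.SGAQuot20

section Formal

variable {S : Scheme.{u}} {N G C H : Over S} [GrpObj N] [GrpObj G] [GrpObj C] [GrpObj H]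
  {j : N ⟶ G} [IsMonHom j] {u : G ⟶ H} [IsMonHom u] {p : G ⟶ C} [IsMonHom p] {i : C ⟶ H} [IsMonHom i]

/-- A homomorphism from a quotient by the whole kernel is a monomorphism. -/
theorem mono_of_quotient (hp : FpqcDescLib.Covers p.left) (hc : FpqcDescLib.IsCosetMap j p)
    (hk : AlgGrp.IsKernel j u) (hi : p ≫ i = u) : Mono i := by
  refine ⟨fun {T} a b hab => ?_⟩
  rw [← mul_inv_eq_one]
  set c : T ⟶ C := a * b⁻¹ with hc'
  have hci : c ≫ i = 1 := by
    rw [hc', MonObj.mul_comp, GrpObj.inv_comp, hab, mul_inv_cancel]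
  have hcov : FpqcDescLib.Covers (Limits.pullback.fst c.left p.left) :=
    hp.pullback c.left _ _ (IsPullback.of_hasPullback _ _)
  let T' : Over S := Over.mk (Limits.pullback.fst c.left p.left ≫ T.hom)
  let π : T' ⟶ T := Over.homMk (Limits.pullback.fst c.left p.left) rfl
  let l : T' ⟶ G := Over.homMk (Limits.pullback.snd c.left p.left) (by
    show Limits.pullback.snd _ _ ≫ G.hom = Limits.pullback.fst _ _ ≫ T.hom
    rw [← Over.w p, ← Limits.pullback.condition_assoc, Over.w c])
  have hl : l ≫ p = π ≫ c := Over.OverMorphism.ext Limits.pullback.condition.symm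
  have : Epi π := FpqcDescLib.Covers.over_epi (p := π) hcov
  have hlu : l ≫ u = toUnit T' ≫ η[H] := by
    rw [← hi, ← Category.assoc, hl, Category.assoc, hci, MonObj.comp_one, Hom.one_def]
  obtain ⟨n, hn⟩ : ∃ n : T' ⟶ N, n ≫ j = l := ⟨hk.lift l (toUnit T') hlu, hk.lift_fst _ _ _⟩
  rw [← cancel_epi π, MonObj.comp_one, ← hl, ← MonObj.one_comp (M := G) p]
  exact ((hc T' 1 l).mpr ⟨n, by rw [_root_.one_mul, hn]⟩).symm

end Formal

variable {A : Type u} [CommRing A] [IsArtinianRing A] [IsLocalRing A]

/-- A quasi-compact homomorphism with flat kernel is a faithfully flat one followed by a closed immersion. -/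
theorem exists_factor {G H : Over (Spec (CommRingCat.of A))} [GrpObj G] [GrpObj H]
    [LocallyOfFiniteType G.hom] [LocallyOfFiniteType H.hom] (u : G ⟶ H) [IsMonHom u] [QuasiCompact u.left]
    (hN : Flat (Limits.pullback.snd u.left (η[H] : 𝟙_ (Over (Spec (CommRingCat.of A))) ⟶ H).left)) :
    ∃ (C : Over (Spec (CommRingCat.of A))) (_ : GrpObj C) (p : G ⟶ C) (i : C ⟶ H), IsMonHom p ∧ IsMonHom i ∧
      p ≫ i = u ∧ Flat p.left ∧ Surjective p.left ∧ LocallyOfFinitePresentation p.left ∧
      IsClosedImmersion i.left ∧ LocallyOfFiniteType C.hom ∧ IsSeparated C.hom ∧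
      (Flat G.hom → Flat C.hom) ∧ (QuasiCompact G.hom → QuasiCompact C.hom) ∧ (Smooth G.hom → Smooth C.hom) := by
  have : IsSeparated H.hom := GrpSchLib.HomFinite.isSeparated H
  obtain ⟨N, _, j, _, hj, hnorm, hk⟩ := GrpSchLib.exists_kernel u
  have hsq : IsPullback j.left N.hom u.left η[H].left := hk.map (Over.forget _)
  have : Flat N.hom := by
    rw [← hsq.isoPullback_hom_snd]
    infer_instance
  have : Mono j := (Over.forget _).mono_of_mono_map (inferInstanceAs (Mono j.left))
  have : LocallyOfFiniteType N.hom := by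
    rw [← Over.w j]
    infer_instance
  obtain ⟨C, gC, p, hp, hps, hpf, hplfp, -, hcos, hCsep, hClft, hC1, hC2, hC3⟩ := exists_quotient_normal j hnorm
  have hcov : FpqcDescLib.Covers p.left :=
    FpqcDescLib.covers_of_isCovering (FpqcDescLib.isCovering_of_lfp p.left)
  have hju : j ≫ u = 1 := hk.w
  obtain ⟨i, ⟨hpi, hi⟩, -⟩ := FpqcDescLib.exists_unique_hom hcov hcos u hju
  have : Mono i := mono_of_quotient hcov hcos hk hpi
  have : QuasiCompact i.left := ⟨fun U hU hUc => by
    rw [← Set.image_preimage_eq (i.left ⁻¹' U) p.left.surjective]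
    refine IsCompact.image ?_ p.left.continuous
    have : QuasiCompact (p ≫ i).left := by rw [hpi]; infer_instance
    exact QuasiCompact.isCompact_preimage (f := (p ≫ i).left) U hU hUc⟩
  exact ⟨C, gC, p, i, hp, hi, hpi, hpf, hps, hplfp, S3036.result A C H i, hClft, hCsep, hC1, hC2, hC3⟩

end Groth.Agent.SGAQuot20
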