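import Groth.Agent.SGAQuot20.Components
import Groth.Agent.SGAQuot20.Factor
import Groth.Agent.EtFound.Descent

/-!
# Image and kernel of a quasi-compact homomorphism over an artinian local ring
-/

set_option backward.isDefEq.respectTransparency false
set_option backward.isDefEq.respectTransparency.types false

universe u

open CategoryTheory MonoidalCategory CartesianMonoidalCategory MonObj GrpObj AlgebraicGeometry
open Groth.Agent.GrpSchLib (clPt clFib clHomeo)
open scoped CategoryTheory.Obj

noncomputable section

namespace Groth.Agent.SGAQuot20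

section Field

variable {k : Type u} [Field k] {N G H : Over (Spec (CommRingCat.of k))} [GrpObj N] [GrpObj G] [GrpObj H]
  [LocallyOfFiniteType G.hom] [LocallyOfFiniteType H.hom] (u : G ⟶ H) [IsMonHom u] [QuasiCompact u.left]
  (j : N ⟶ G) [IsMonHom j]

/-- The image is closed, the dimensions add up, and a proper kernel forces properness. -/
theorem ker_dim_field (hk : AlgGrp.IsKernel j u) :
    IsClosed (Set.range u.left) ∧
      topologicalKrullDim ↥G.left = topologicalKrullDim ↥(Set.range u.left) + topologicalKrullDim ↥N.left ∧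
      (IsProper N.hom → IsProper u.left) := by
  have : IsSeparated H.hom := GrpSchLib.HomFinite.isSeparated H
  have hsqk : IsPullback j.left N.hom u.left η[H].left := hk.map (Over.forget _)
  have : IsClosedImmersion η[H].left := by
    haveI : IsClosedImmersion (η[H].left ≫ H.hom) := by
      rw [Over.w η[H]]
      exact inferInstanceAs (IsClosedImmersion (𝟙 _))
    exact IsClosedImmersion.of_comp η[H].left H.hom
  have : IsClosedImmersion j.left := MorphismProperty.of_isPullback (P := @IsClosedImmersion) hsqk.flip ‹_›
  have : Mono j := (Over.forget _).mono_of_mono_map (inferInstanceAs (Mono j.left))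
  have : LocallyOfFiniteType N.hom := by
    rw [← Over.w j]
    infer_instance
  have hju : j ≫ u = 1 := hk.w
  have hnorm : AlgGrp.IsNormalHom j := fun T g n => by
    refine ⟨hk.lift (g * (n ≫ j) * g⁻¹) (toUnit T) ?_, (hk.lift_fst _ _ _).symm⟩
    rw [MonObj.mul_comp, MonObj.mul_comp, Category.assoc, hju, MonObj.comp_one, _root_.mul_one,
      GrpObj.inv_comp, mul_inv_cancel, Hom.one_def]
  obtain ⟨C, p, -, hClft, hps, hpf, hplfp, hsq, -, -, -⟩ := exists_quotient_artin j
  have hcov : FpqcDescLib.Covers p.left :=
    FpqcDescLib.covers_of_isCovering (FpqcDescLib.isCovering_of_lfp p.left)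
  have hcos := isCosetMap hsq hnorm
  obtain ⟨gC, hp⟩ := FpqcDescLib.exists_grpObj hcov hcos hnorm
  obtain ⟨i, ⟨hpi, hi⟩, -⟩ := FpqcDescLib.exists_unique_hom hcov hcos u hju
  have : Mono i := mono_of_quotient hcov hcos hk hpi
  have : QuasiCompact i.left := ⟨fun U hU hUc => by
    rw [← Set.image_preimage_eq (i.left ⁻¹' U) p.left.surjective]
    refine IsCompact.image ?_ p.left.continuous
    have : QuasiCompact (p ≫ i).left := by rw [hpi]; infer_instance
    exact QuasiCompact.isCompact_preimage (f := (p ≫ i).left) U hU hUc⟩
  have : IsClosedImmersion i.left := S3036.result k C H i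
  have hrange : Set.range u.left = Set.range i.left := by
    rw [← hpi, Over.comp_left, Scheme.Hom.comp_base, TopCat.coe_comp, Set.range_comp, p.left.surjective.range_eq,
      Set.image_univ]
  refine ⟨hrange ▸ i.left.isClosedEmbedding.isClosed_range, ?_, fun hN => ?_⟩
  · rw [hrange, ← (i.left.isClosedEmbedding.isEmbedding.toHomeomorph).isHomeomorph.topologicalKrullDim_eq]
    obtain ⟨c, -⟩ : ∃ c : C.left, c = η[C].left (IsLocalRing.closedPoint k) := ⟨_, rfl⟩
    obtain ⟨ξ, -, hξc, hξd⟩ := exists_generic (G := C) c
    have := (components_quotient hsq c).2.2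
    rw [hξc, hξd] at this
    exact this.symm
  · have : IsProper (snd N G).left := MorphismProperty.pullback_snd (P := @IsProper) N.hom G.hom hN
    have := EtFound.fpqc_isProper.{u}
    have : IsProper p.left :=
      hcov.descends @IsProper p.left _ _ (hsq.map (Over.forget _)).flip ‹_›
    rw [← hpi, Over.comp_left]
    infer_instance

end Field

section Artin

variable {A : Type u} [CommRing A] [IsArtinianRing A] [IsLocalRing A]
  {G H : Over (Spec (CommRingCat.of A))} [GrpObj G] [GrpObj H] [LocallyOfFiniteType G.hom]
  [LocallyOfFiniteType H.hom] (u : G ⟶ H) [IsMonHom u] [QuasiCompact u.left]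

theorem ker_dim :
    IsClosed (Set.range u.left) ∧
      topologicalKrullDim ↥G.left = topologicalKrullDim ↥(Set.range u.left) +
        topologicalKrullDim ↥(Limits.pullback u.left η[H].left) ∧
      (IsProper (Limits.pullback.snd u.left η[H].left) → IsProper u.left) := by
  have : IsSeparated H.hom := GrpSchLib.HomFinite.isSeparated H
  obtain ⟨N, _, j, hj, -, -, hk⟩ := GrpSchLib.exists_kernel u
  have hsqk : IsPullback j.left N.hom u.left η[H].left := hk.map (Over.forget _)
  let Φ := Over.pullback (clPt A)
  have : LocallyOfFiniteType (Φ.obj G).hom :=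
    inferInstanceAs (LocallyOfFiniteType (Limits.pullback.snd G.hom (clPt A)))
  have : LocallyOfFiniteType (Φ.obj H).hom :=
    inferInstanceAs (LocallyOfFiniteType (Limits.pullback.snd H.hom (clPt A)))
  have : QuasiCompact (Φ.map u).left := MorphismProperty.overPullbackMap (P := @QuasiCompact) _ u ‹_›
  have hη : η[Φ.obj H] = Functor.LaxMonoidal.ε Φ ≫ Φ.map η[H] := rfl
  have hk' : AlgGrp.IsKernel (Φ.map j) (Φ.map u) :=
    (hk.map Φ).of_iso (Iso.refl _) (Iso.refl _) (Functor.Monoidal.εIso Φ).symm (Iso.refl _) (by simp)
      (toUnit_unique _ _) (by simp) (by simp [hη])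
  obtain ⟨hcl, hdim, hprop⟩ := ker_dim_field (Φ.map u) (Φ.map j) hk'
  have hran : clHomeo H '' Set.range (Φ.map u).left = Set.range u.left := by
    rw [← Set.range_comp, show clHomeo H ∘ (Φ.map u).left = u.left ∘ clHomeo G from
      funext (GrpSchLib.map_clFib_apply H u)]
    rw [Set.range_comp, (clHomeo G).surjective.range_eq, Set.image_univ]
  refine ⟨hran ▸ (clHomeo H).isClosedMap _ hcl, ?_, fun hp => ?_⟩
  · rw [← (clHomeo G).isHomeomorph.topologicalKrullDim_eq, hdim, (clHomeo N).isHomeomorph.topologicalKrullDim_eq,
      ← hran, ← ((clHomeo H).isEmbedding.homeomorphImage _).isHomeomorph.topologicalKrullDim_eq,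
      ← (Scheme.homeoOfIso hsqk.isoPullback).isHomeomorph.topologicalKrullDim_eq]
  · have : IsProper N.hom := by
      rw [← hsqk.isoPullback_hom_snd]
      infer_instance
    have := hprop (MorphismProperty.pullback_snd (P := @IsProper) N.hom (clPt A) ‹_›)
    have : UniversallyClosed (Limits.pullback.fst G.hom (clPt A) ≫ u.left) := by
      have e : (Φ.map u).left ≫ Limits.pullback.fst H.hom (clPt A) = Limits.pullback.fst G.hom (clPt A) ≫ u.left :=
        Limits.pullback.lift_fst _ _ _
      rw [← e]
      infer_instance
    have : UniversallyClosed u.left := UniversallyClosed.of_comp_surjective (Limits.pullback.fst G.hom (clPt A)) u.left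
    have : LocallyOfFiniteType (u.left ≫ H.hom) := by rw [Over.w u]; infer_instance
    have : LocallyOfFiniteType u.left := locallyOfFiniteType_of_comp u.left H.hom
    have : IsSeparated (u.left ≫ H.hom) := by rw [Over.w u]; exact GrpSchLib.HomFinite.isSeparated G
    have : IsSeparated u.left := IsSeparated.of_comp u.left H.hom
    exact ⟨⟩

end Artin

end Groth.Agent.SGAQuot20
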