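import Groth.Agent.SGAQuot20.Field
import Groth.Agent.GrpSchLib.ArtinTop
import Groth.Agent.GrpSchLib.HomFinite
import Groth.Agent.GrpdThick.Local
import Groth.Agent.FpqcDescLib.Diagonal
import Groth.Agent.SrcDescent.SmoothFppf
import Groth.Agent.SrcDescent.SchemeFppf
import Groth.Agent.FComplLib.IdealComap
import Groth.Agent.S3036

/-!
# Quotients of groups locally of finite type over an artinian local ring by flat subgroups
-/

set_option backward.isDefEq.respectTransparency false
set_option backward.isDefEq.respectTransparency.types false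

universe u

open CategoryTheory MonoidalCategory CartesianMonoidalCategory MonObj GrpObj AlgebraicGeometry
open Limits (pullback)
open scoped CategoryTheory.Obj

noncomputable section

namespace Groth.Agent.SGAQuot20

open GrpSchLib (clPt)

/-- The base change square of a morphism over the base. -/
theorem isPullback_pullbackMap {S S' : Scheme.{u}} (c : S' ⟶ S) {T X : Over S} (g : T ⟶ X) :
    IsPullback (pullback.fst T.hom c) ((Over.pullback c).map g).left g.left (pullback.fst X.hom c) := by
  refine (IsPullback.of_right ?_ ?_ (IsPullback.of_hasPullback X.hom c).flip).flip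
  · have e : ((Over.pullback c).map g).left ≫ pullback.snd X.hom c = pullback.snd T.hom c :=
      Over.w ((Over.pullback c).map g)
    rw [e, Over.w g]
    exact (IsPullback.of_hasPullback T.hom c).flip
  · exact Limits.pullback.lift_fst _ _ _

theorem isNilpotent_ker_fst {A : Type u} [CommRing A] [IsArtinianRing A] [IsLocalRing A]
    (G : Over (Spec (CommRingCat.of A))) : IsNilpotent (pullback.fst G.hom (clPt A)).ker := by
  obtain ⟨n, hn⟩ : IsNilpotent (IsLocalRing.maximalIdeal A) := by
    rw [← IsLocalRing.jacobson_eq_maximalIdeal ⊥ bot_ne_top]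
    exact IsArtinianRing.isNilpotent_jacobson_bot
  let φ := CommRingCat.ofHom (IsLocalRing.residue A)
  have hn' : RingHom.ker (Spec.map φ).appTop.hom ^ n = ⊥ := by
    let σ := (Scheme.ΓSpecIso (CommRingCat.of A)).commRingCatIsoToRingEquiv
    have e : RingHom.ker (Spec.map φ).appTop.hom =
        (RingHom.ker (IsLocalRing.residue A)).map σ.symm.toRingHom := by
      show _ = Ideal.map σ.symm _
      rw [Ideal.map_symm]
      ext x
      rw [RingHom.mem_ker, Ideal.mem_comap, RingHom.mem_ker]
      have hx := congr(($(Scheme.ΓSpecIso_naturality φ)).hom x)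
      refine ⟨fun h => ?_, fun h => ?_⟩
      · exact hx.symm.trans (by rw [CommRingCat.comp_apply, h, map_zero])
      · refine (Scheme.ΓSpecIso _).commRingCatIsoToRingEquiv.injective ?_
        exact hx.trans (h.trans (map_zero _).symm)
    rw [e, IsLocalRing.ker_residue, ← Ideal.map_pow, hn, Ideal.zero_eq_bot, Ideal.map_bot]
  refine ⟨n, ?_⟩
  rw [Scheme.IdealSheafData.zero_eq_bot]
  show (pullback.fst G.hom (clPt A)).ker ^ n = ⊥
  rw [Scheme.IdealSheafData.ker_fst_of_isClosedImmersion, ← FComplLib.comap_pow]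
  rw [show (clPt A).ker ^ n = ⊥ from Scheme.IdealSheafData.ext_of_isAffine (by
    rw [Scheme.IdealSheafData.ideal_pow, Pi.pow_apply, Scheme.ker_of_isAffine]
    simpa using hn'), Scheme.IdealSheafData.comap_bot]

variable {A : Type u} [CommRing A] [IsArtinianRing A] [IsLocalRing A]
  {F G : Over (Spec (CommRingCat.of A))} [GrpObj F] [GrpObj G] (u : F ⟶ G) [IsMonHom u]

theorem exists_quotient_scheme [Mono u] [QuasiCompact u.left] [Flat F.hom] [LocallyOfFiniteType F.hom]
    [LocallyOfFiniteType G.hom] :
    ∃ (Y : Scheme.{u}) (p : G.left ⟶ Y),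
      Surjective p ∧ Flat p ∧ LocallyOfFinitePresentation p ∧ IsPullback (lgpd u).t (lgpd u).s p p := by
  let c := clPt A
  let Φ := Over.pullback c
  have : IsSeparated F.hom := GrpSchLib.HomFinite.isSeparated F
  have : Mono (Φ.map u) := inferInstance
  have : QuasiCompact (Φ.map u).left := MorphismProperty.overPullbackMap (P := @QuasiCompact) c u ‹_›
  have : IsSeparated (Φ.obj F).hom := inferInstanceAs (IsSeparated (pullback.snd F.hom c))
  have : LocallyOfFiniteType (Φ.obj F).hom := inferInstanceAs (LocallyOfFiniteType (pullback.snd F.hom c))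
  have : LocallyOfFiniteType (Φ.obj G).hom := inferInstanceAs (LocallyOfFiniteType (pullback.snd G.hom c))
  obtain ⟨Y₀, p₀, hp₁, hp₂, hp₃, hsq⟩ := exists_quotient (Φ.map u)
  let c₀ : (Φ.obj G).left ⟶ G.left := pullback.fst G.hom c
  let t : F ⊗ G ⟶ G := (leftAct u).act
  let s : F ⊗ G ⟶ G := snd F G
  have hs := isPullback_pullbackMap c s
  have ht := isPullback_pullbackMap c t
  let ψ : pullback (lgpd u).s c₀ ≅ pullback (lgpd u).t c₀ := hs.isoPullback.symm ≪≫ ht.isoPullback
  have hψ : ψ.hom ≫ Limits.pullback.fst (lgpd u).t c₀ = Limits.pullback.fst (lgpd u).s c₀ := by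
    show (hs.isoPullback.inv ≫ ht.isoPullback.hom) ≫ Limits.pullback.fst t.left c₀ = _
    rw [Category.assoc, IsPullback.isoPullback_hom_fst, IsPullback.isoPullback_inv_fst]
    rfl
  let m₀ := Functor.Monoidal.μIso Φ F G
  let e : (Φ.obj F ⊗ Φ.obj G).left ≅ pullback (lgpd u).s c₀ :=
    (Over.forget _).mapIso m₀ ≪≫ hs.isoPullback
  have he₁ : e.hom ≫ Limits.pullback.snd (lgpd u).s c₀ = (lgpd (Φ.map u)).s := by
    show (m₀.hom.left ≫ hs.isoPullback.hom) ≫ Limits.pullback.snd s.left c₀ = (snd (Φ.obj F) (Φ.obj G)).left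
    rw [Category.assoc, IsPullback.isoPullback_hom_snd, ← Over.comp_left]
    exact congrArg CommaMorphism.left (Functor.Monoidal.μ_snd Φ F G)
  have he₂ : e.hom ≫ ψ.hom ≫ Limits.pullback.snd (lgpd u).t c₀ = (lgpd (Φ.map u)).t := by
    show (m₀.hom.left ≫ hs.isoPullback.hom) ≫ (hs.isoPullback.inv ≫ ht.isoPullback.hom) ≫
      Limits.pullback.snd t.left c₀ = ((leftAct (Φ.map u)).act).left
    simp only [Category.assoc, Iso.hom_inv_id_assoc]
    refine (congrArg (m₀.hom.left ≫ ·) ht.isoPullback_hom_snd).trans ?_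
    rw [← Over.comp_left]
    refine congrArg CommaMorphism.left ?_
    show m₀.hom ≫ Φ.map ((fst F G ≫ u) * snd F G) = _
    rw [Functor.map_mul, MonObj.comp_mul, Functor.map_comp, ← Category.assoc]
    exact congrArg₂ (· * ·) (congrArg (· ≫ Φ.map u) (Functor.Monoidal.μ_fst Φ F G))
      (Functor.Monoidal.μ_snd Φ F G)
  have h₀ : IsPullback (ψ.hom ≫ Limits.pullback.snd (lgpd u).t c₀) (Limits.pullback.snd (lgpd u).s c₀) p₀ p₀ :=
    hsq.of_iso e (Iso.refl _) (Iso.refl _) (Iso.refl _) (by simpa using he₂.symm) (by simpa using he₁.symm)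
      (by simp) (by simp)
  have : IsNoetherianRing A := inferInstance
  have : IsLocallyNoetherian (Spec (CommRingCat.of A)) := inferInstance
  have : LocallyOfFinitePresentation F.hom := inferInstance
  have : Flat (lgpd u).s := property_s u @Flat ‹_›
  have : Flat (lgpd u).t := property_t u @Flat ‹_›
  have : LocallyOfFinitePresentation (lgpd u).s := property_s u @LocallyOfFinitePresentation ‹_›
  have : LocallyOfFinitePresentation (lgpd u).t := property_t u @LocallyOfFinitePresentation ‹_›
  have : Mono (lgpd u).j := mono_j u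
  exact GrpdThick.exists_quotient_of_thickening (lgpd u) c₀ ψ hψ (isNilpotent_ker_fst G) h₀

theorem isClosedImmersion_graph_of_isClosedImmersion [IsClosedImmersion u.left] :
    IsClosedImmersion (lift ((u ▷ G) ≫ μ[G]) (snd F G)).left := by
  have e : lift ((u ▷ G) ≫ μ[G]) (snd F G) =
      (u ▷ G) ≫ (lift (fst G G * snd G G) (snd G G)) := by
    apply CartesianMonoidalCategory.hom_ext <;> simp [Hom.mul_def]
  let σ : G ⊗ G ≅ G ⊗ G :=
    { hom := lift (fst G G * snd G G) (snd G G)
      inv := lift (fst G G * (snd G G)⁻¹) (snd G G)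
      hom_inv_id := by
        apply CartesianMonoidalCategory.hom_ext
        · simp [MonObj.comp_mul, GrpObj.comp_inv]
        · simp
      inv_hom_id := by
        apply CartesianMonoidalCategory.hom_ext
        · simp [MonObj.comp_mul, GrpObj.comp_inv]
        · simp }
  have : IsIso σ.hom.left := ((Over.forget _).mapIso σ).isIso_hom
  have : IsClosedImmersion (u ▷ G).left :=
    MorphismProperty.of_isPullback (P := @IsClosedImmersion) (isPullback_whiskerRight_left u G).flip ‹_›
  rw [e, Over.comp_left]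
  exact inferInstanceAs (IsClosedImmersion ((u ▷ G).left ≫ σ.hom.left))

omit [IsArtinianRing A] [IsLocalRing A] in
theorem leftAct_act : (leftAct u).act = (u ▷ G) ≫ μ[G] := by
  show (fst F G ≫ u) * snd F G = _
  rw [Hom.mul_def]
  congr 1

/-- The quotient of a group by a flat subgroup over an artinian local ring. -/
theorem exists_quotient_artin [Mono u] [QuasiCompact u.left] [Flat F.hom] [LocallyOfFiniteType F.hom]
    [LocallyOfFiniteType G.hom] :
    ∃ (X : Over (Spec (CommRingCat.of A))) (p : G ⟶ X),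
      IsSeparated X.hom ∧ LocallyOfFiniteType X.hom ∧
      Surjective p.left ∧ Flat p.left ∧ LocallyOfFinitePresentation p.left ∧
      IsPullback ((u ▷ G) ≫ μ[G]) (snd F G) p p ∧
      (Flat G.hom → Flat X.hom) ∧ (QuasiCompact G.hom → QuasiCompact X.hom) ∧ (Smooth G.hom → Smooth X.hom) := by
  obtain ⟨Y, p, hp₁, hp₂, hp₃, hsq⟩ := exists_quotient_scheme u
  have hc : FpqcDescLib.Covers p := FpqcDescLib.covers_of_isCovering (FpqcDescLib.isCovering_of_lfp p)
  have := hp₁
  have := hp₂
  have := hp₃
  have hh : ∃ h : Y ⟶ Spec (CommRingCat.of A), p ≫ h = G.hom := by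
    have : EffectiveEpi p := (FpqcDescLib.isCovering_of_lfp p).effectiveEpi
    refine ⟨EffectiveEpi.desc p G.hom (fun {Z} g₁ g₂ h => ?_), EffectiveEpi.fac _ _ _⟩
    refine (congrArg (· ≫ G.hom) (hsq.lift_fst g₁ g₂ h)).symm.trans
      (Eq.trans ?_ (congrArg (· ≫ G.hom) (hsq.lift_snd g₁ g₂ h)))
    refine (Category.assoc _ _ _).trans (Eq.trans (congrArg (hsq.lift g₁ g₂ h ≫ ·) ?_) (Category.assoc _ _ _).symm)
    exact (Over.w (leftAct u).act).trans (Over.w (snd F G)).symm
  obtain ⟨h, hh⟩ := hh
  let X : Over (Spec (CommRingCat.of A)) := Over.mk h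
  let p' : G ⟶ X := Over.homMk p hh
  have hsq' : IsPullback ((u ▷ G) ≫ μ[G]) (snd F G) p' p' := by
    rw [← leftAct_act]
    exact IsPullback.of_map (Over.forget _) (by ext1; exact hsq.w) hsq
  have : IsClosedImmersion u.left := S3036.result A F G u
  have := isClosedImmersion_graph_of_isClosedImmersion u
  refine ⟨X, p', FpqcDescLib.isSeparated_of_isClosedImmersion_graph hc hsq', ?_, hp₁, hp₂, hp₃, hsq',
    fun hf => ?_, fun hq => ?_, fun hs => ?_⟩
  · have : LocallyOfFiniteType (p ≫ h) := by rw [hh]; infer_instance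
    exact SrcDescent.locallyOfFiniteType_of_fppf_comp p h
  · have : Flat (p ≫ h) := by rw [hh]; exact hf
    exact SrcDescent.flat_of_fppf_comp p h
  · have : QuasiCompact (p ≫ h) := by rw [hh]; exact hq
    refine ⟨fun U hU hUc => ?_⟩
    show IsCompact (h ⁻¹' U)
    rw [← Set.image_preimage_eq (h ⁻¹' U) p.surjective]
    refine IsCompact.image ?_ p.continuous
    exact QuasiCompact.isCompact_preimage (f := p ≫ h) U hU hUc
  · have : Smooth (p ≫ h) := by rw [hh]; exact hs
    exact SrcDescent.smooth_of_fppf_comp p h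

end Groth.Agent.SGAQuot20
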