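import Groth.Agent.SGAQuot20.AbelianCat
import Groth.Agent.GrpSchLib.NormalQuot

/-!
# Commutative algebraic groups and commutative affine algebraic groups form abelian categories
-/

set_option backward.isDefEq.respectTransparency false
set_option backward.isDefEq.respectTransparency.types false

universe u

open CategoryTheory MonoidalCategory CartesianMonoidalCategory MonObj GrpObj AlgebraicGeometry

noncomputable section

namespace Groth.Agent.SGAQuot20

variable {k : Type u} [Field k]

local notation "𝒮" => Over (Spec (CommRingCat.of k))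

theorem finiteType_tensor (X Y : 𝒮) (hX : LocallyOfFiniteType X.hom ∧ QuasiCompact X.hom)
    (hY : LocallyOfFiniteType Y.hom ∧ QuasiCompact Y.hom) :
    LocallyOfFiniteType (X ⊗ Y).hom ∧ QuasiCompact (X ⊗ Y).hom := by
  have : LocallyOfFiniteType (fst X Y).left :=
    MorphismProperty.pullback_fst (P := @LocallyOfFiniteType) X.hom Y.hom hY.1
  have : QuasiCompact (fst X Y).left := MorphismProperty.pullback_fst (P := @QuasiCompact) X.hom Y.hom hY.2
  have := hX.1
  have := hX.2
  rw [← Over.w (fst X Y)]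
  exact ⟨inferInstance, inferInstance⟩

theorem finiteType_closed {X Y : 𝒮} (i : X ⟶ Y) [IsClosedImmersion i.left]
    (hY : LocallyOfFiniteType Y.hom ∧ QuasiCompact Y.hom) :
    LocallyOfFiniteType X.hom ∧ QuasiCompact X.hom := by
  have := hY.1
  have := hY.2
  rw [← Over.w i]
  exact ⟨inferInstance, inferInstance⟩

theorem finiteType_unit : LocallyOfFiniteType (𝟙_ 𝒮).hom ∧ QuasiCompact (𝟙_ 𝒮).hom :=
  ⟨inferInstanceAs (LocallyOfFiniteType (𝟙 (Spec (CommRingCat.of k)))),
    inferInstanceAs (QuasiCompact (𝟙 (Spec (CommRingCat.of k))))⟩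

/-- The quotient of an affine group of finite type by a normal subgroup is affine. -/
theorem isAffine_quotient {N G Q : 𝒮} [GrpObj N] [GrpObj G] [GrpObj Q] [IsCommMonObj G] [IsAffine G.left]
    [LocallyOfFiniteType G.hom] [QuasiCompact G.hom] [LocallyOfFiniteType Q.hom] (i : N ⟶ G) [IsMonHom i]
    [IsClosedImmersion i.left] (q : G ⟶ Q) [IsMonHom q] [Surjective q.left] [Flat q.left]
    [LocallyOfFinitePresentation q.left] (hk : AlgGrp.IsKernel i q) : IsAffine Q.left := by
  obtain ⟨Q', _, q', _, hQa, hQf, -, -, hk'⟩ := GrpSchLib.NormalQuot.exists_quot G N i (isNormalHom_of_comm i)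
  have hcov := covers_of_fppf q.left
  have hiq' : i ≫ q' = 1 := hk'.w
  obtain ⟨v, ⟨hv, _⟩, -⟩ := FpqcDescLib.exists_unique_hom hcov (isCosetMap_of_isKernel hk) q' hiq'
  have : Mono v := mono_of_quotient hcov (isCosetMap_of_isKernel hk) hk' hv
  have : QuasiCompact Q.hom := ⟨fun U hU hUc => by
    rw [← Set.image_preimage_eq (Q.hom ⁻¹' U) q.left.surjective]
    refine IsCompact.image ?_ q.left.continuous
    have : QuasiCompact (q.left ≫ Q.hom) := by rw [Over.w q]; infer_instance
    exact QuasiCompact.isCompact_preimage (f := q.left ≫ Q.hom) U hU hUc⟩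
  have : IsSeparated Q'.hom := GrpSchLib.HomFinite.isSeparated Q'
  have : QuasiCompact (v.left ≫ Q'.hom) := by rw [Over.w v]; infer_instance
  have : QuasiCompact v.left := QuasiCompact.of_comp v.left Q'.hom
  have : IsClosedImmersion v.left := S3036.result k Q Q' v
  exact isAffine_of_isAffineHom v.left

variable (k)

theorem abelian_algebraic :
    Nonempty (Abelian (ObjectProperty.FullSubcategory
      (fun G : CommGrp 𝒮 => LocallyOfFiniteType G.X.hom ∧ QuasiCompact G.X.hom))) :=
  nonempty_abelian _ (fun _ h => h) finiteType_unit (fun X Y hX hY => finiteType_tensor X.X Y.X hX hY)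
    (fun X Y hY i _ _ => finiteType_closed i hY) (fun C X Y _ i q _ _ _ _ _ _ _ h₁ h₂ => ⟨h₁, h₂⟩)

theorem abelian_algebraic_affine :
    Nonempty (Abelian (ObjectProperty.FullSubcategory
      (fun G : CommGrp 𝒮 => LocallyOfFiniteType G.X.hom ∧ QuasiCompact G.X.hom ∧ IsAffine G.X.left))) :=
  nonempty_abelian _ (fun _ h => ⟨h.1, h.2.1⟩)
    ⟨finiteType_unit.1, finiteType_unit.2, inferInstanceAs (IsAffine (Spec (CommRingCat.of k)))⟩
    (fun X Y hX hY => by
      obtain ⟨h₁, h₂⟩ := finiteType_tensor X.X Y.X ⟨hX.1, hX.2.1⟩ ⟨hY.1, hY.2.1⟩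
      have := hX.2.2
      have := hY.2.2
      exact ⟨h₁, h₂, inferInstanceAs (IsAffine (Limits.pullback X.X.hom Y.X.hom))⟩)
    (fun X Y hY i _ _ => by
      obtain ⟨h₁, h₂⟩ := finiteType_closed i ⟨hY.1, hY.2.1⟩
      have := hY.2.2
      exact ⟨h₁, h₂, isAffine_of_isAffineHom i.left⟩)
    (fun C X Y hX i q _ _ _ _ _ _ hk h₁ h₂ => by
      have := hX.1
      have := hX.2.1
      have := hX.2.2
      exact ⟨h₁, h₂, isAffine_quotient i q hk⟩)

end Groth.Agent.SGAQuot20
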