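import Groth.Agent.SGAQuot20.Artin
import Groth.Agent.FibDim.BaseField
import Groth.Agent.S5341
import Groth.Agent.S5345

/-!
# Connected components of the quotient of a group by a subgroup
-/

set_option backward.isDefEq.respectTransparency false
set_option backward.isDefEq.respectTransparency.types false

universe u

open CategoryTheory MonoidalCategory CartesianMonoidalCategory MonObj GrpObj AlgebraicGeometry
open Groth.Agent.GrpSchLib (IsMaxPt clPt clFib clHomeo)
open scoped CategoryTheory.Obj

noncomputable section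

namespace Groth.Agent.SGAQuot20

theorem isClopen_sUnion {X : Type*} [TopologicalSpace X] [LocallyConnectedSpace X] (C : Set (Set X))
    (h : ∀ W ∈ C, IsClopen W) : IsClopen (⋃₀ C) := by
  refine ⟨isOpen_compl_iff.mp (isOpen_iff_forall_mem_open.mpr fun x hx =>
    ⟨connectedComponent x, fun y hy ⟨W, hW, hyW⟩ => hx ⟨W, hW, ?_⟩, isOpen_connectedComponent,
      mem_connectedComponent⟩), isOpen_sUnion fun W hW => (h W hW).isOpen⟩
  have := (h W hW).connectedComponent_subset hyW
  exact this (connectedComponent_eq hy ▸ mem_connectedComponent)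

section Field

variable {k : Type u} [Field k] {F G : Over (Spec (CommRingCat.of k))}
  [LocallyOfFiniteType F.hom] [LocallyOfFiniteType G.hom]

/-- Over a field the projection of a product sends clopen sets to clopen sets. -/
theorem isClopen_image_snd_field (Z : Set (F ⊗ G).left) (hZ : IsClopen Z) :
    IsClopen ((snd F G).left '' Z) := by
  have : IsLocallyNoetherian G.left := LocallyOfFiniteType.isLocallyNoetherian G.hom
  have : LocallyConnectedSpace G.left := locallyConnectedSpace _
  have : JacobsonSpace G.left := LocallyOfFiniteType.jacobsonSpace G.hom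
  have : LocallyOfFiniteType (fst F G).left :=
    MorphismProperty.pullback_fst (P := @LocallyOfFiniteType) F.hom G.hom ‹_›
  have : LocallyOfFiniteType (F ⊗ G).hom := by
    rw [← Over.w (fst F G)]
    infer_instance
  have : JacobsonSpace (F ⊗ G).left := LocallyOfFiniteType.jacobsonSpace (F ⊗ G).hom
  have : JacobsonSpace F.left := LocallyOfFiniteType.jacobsonSpace F.hom
  have : Flat (snd F G).left := MorphismProperty.pullback_snd (P := @Flat) F.hom G.hom inferInstance
  have : LocallyOfFinitePresentation (snd F G).left :=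
    MorphismProperty.pullback_snd (P := @LocallyOfFinitePresentation) F.hom G.hom inferInstance
  let T : F.left → Over (Spec (CommRingCat.of k)) := fun a => Over.mk (F.left.fromSpecResidueField a ≫ F.hom)
  let pa : ∀ a, T a ⟶ F := fun a => Over.homMk (F.left.fromSpecResidueField a) rfl
  let piece : F.left → Set G.left := fun a => (snd (T a) G).left '' ((pa a ▷ G).left ⁻¹' Z)
  let C : Set (Set G.left) := piece '' {a | IsClosed ({a} : Set F.left)}
  have hC : IsClopen (⋃₀ C) := isClopen_sUnion C (by
    rintro _ ⟨a, ha, rfl⟩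
    have hfin : IsFinite (T a).hom := by
      have := isClosed_singleton_iff_isClosedImmersion.mp ha
      exact (isFinite_iff_locallyOfFiniteType_of_jacobsonSpace
        (f := F.left.fromSpecResidueField a ≫ F.hom)).mpr inferInstance
    have : IsFinite (snd (T a) G).left := MorphismProperty.pullback_snd (P := @IsFinite) (T a).hom G.hom hfin
    have : Flat (snd (T a) G).left := MorphismProperty.pullback_snd (P := @Flat) (T a).hom G.hom inferInstance
    have : LocallyOfFinitePresentation (snd (T a) G).left :=
      MorphismProperty.pullback_snd (P := @LocallyOfFinitePresentation) (T a).hom G.hom inferInstance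
    have hZ' : IsClopen ((pa a ▷ G).left ⁻¹' Z) := hZ.preimage (pa a ▷ G).left.continuous
    exact ⟨(snd (T a) G).left.isClosedMap _ hZ'.isClosed, (snd (T a) G).left.isOpenMap _ hZ'.isOpen⟩)
  have hle : ⋃₀ C ⊆ (snd F G).left '' Z := by
    rintro y ⟨_, ⟨a, -, rfl⟩, ⟨z, hz, rfl⟩⟩
    refine ⟨_, hz, ?_⟩
    rw [← Scheme.Hom.comp_apply, ← Over.comp_left, whiskerRight_snd]
  suffices h : (snd F G).left '' Z ⊆ ⋃₀ C by
    rw [subset_antisymm h hle]
    exact hC
  by_contra hne
  obtain ⟨y, hy, hyC⟩ := Set.not_subset.mp hne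
  obtain ⟨y₁, ⟨hy₁, hy₁C⟩, hy₁c⟩ := nonempty_inter_closedPoints
    (Z := (snd F G).left '' Z ∩ (⋃₀ C)ᶜ) ⟨y, hy, hyC⟩
    (((snd F G).left.isOpenMap _ hZ.isOpen).inter hC.compl.isOpen).isLocallyClosed
  obtain ⟨z₀, hz₀, hz₀y⟩ := hy₁
  obtain ⟨z, ⟨hzZ, hzy⟩, hzc⟩ := nonempty_inter_closedPoints
    (Z := Z ∩ (snd F G).left ⁻¹' {y₁}) ⟨z₀, hz₀, hz₀y⟩
    (hZ.isClosed.inter (hy₁c.preimage (snd F G).left.continuous)).isLocallyClosed
  have ha : IsClosed ({(fst F G).left z} : Set F.left) := (fst F G).left.closePoints_subset_preimage_closedPoints hzc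
  obtain ⟨z', hz', -⟩ := Scheme.exists_preimage_of_isPullback
    (isPullback_whiskerRight_left (pa ((fst F G).left z)) G) z
    (IsLocalRing.closedPoint (F.left.residueField ((fst F G).left z)))
    (Scheme.fromSpecResidueField_apply _ _).symm
  refine hy₁C ⟨_, ⟨_, ha, rfl⟩, z', ?_, ?_⟩
  · show (pa _ ▷ G).left z' ∈ Z
    rw [hz']
    exact hzZ
  · refine Eq.trans ?_ ((congrArg (snd F G).left hz').trans (hzy : (snd F G).left z = y₁))
    rw [← Scheme.Hom.comp_apply, ← Over.comp_left, whiskerRight_snd]

end Field

section Artin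

variable {A : Type u} [CommRing A] [IsArtinianRing A] [IsLocalRing A]
  {F G : Over (Spec (CommRingCat.of A))} [LocallyOfFiniteType F.hom] [LocallyOfFiniteType G.hom]

/-- Over an artinian local ring the projection of a product sends clopen sets to clopen sets. -/
theorem isClopen_image_snd (Z : Set (F ⊗ G).left) (hZ : IsClopen Z) : IsClopen ((snd F G).left '' Z) := by
  let Φ := Over.pullback (clPt A)
  have : LocallyOfFiniteType (Φ.obj F).hom :=
    inferInstanceAs (LocallyOfFiniteType (Limits.pullback.snd F.hom (clPt A)))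
  have : LocallyOfFiniteType (Φ.obj G).hom :=
    inferInstanceAs (LocallyOfFiniteType (Limits.pullback.snd G.hom (clPt A)))
  let m₀ := Functor.Monoidal.μIso Φ F G
  have : IsIso m₀.hom.left := ((Over.forget _).mapIso m₀).isIso_hom
  let e : (Φ.obj F ⊗ Φ.obj G).left ⟶ (F ⊗ G).left := m₀.hom.left ≫ Limits.pullback.fst (F ⊗ G).hom (clPt A)
  have hsurj : Surjective e := inferInstance
  have hcomm : ∀ z, clHomeo G ((snd (Φ.obj F) (Φ.obj G)).left z) = (snd F G).left (e z) := fun z => by
    rw [← Functor.Monoidal.μ_snd Φ F G, Over.comp_left, Scheme.Hom.comp_apply]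
    exact GrpSchLib.map_clFib_apply G (snd F G) _
  have h := isClopen_image_snd_field (e ⁻¹' Z) (hZ.preimage e.continuous)
  have heq : (snd F G).left '' Z = clHomeo G '' ((snd (Φ.obj F) (Φ.obj G)).left '' (e ⁻¹' Z)) := by
    rw [Set.image_image, Set.image_congr' hcomm, ← Set.image_image (snd F G).left e,
      Set.image_preimage_eq Z hsurj.surj]
  rw [heq]
  exact ⟨(clHomeo G).isClosedMap _ h.isClosed, (clHomeo G).isOpenMap _ h.isOpen⟩

omit [LocallyOfFiniteType F.hom] in
/-- Every component of a group over an artinian local ring is the closure of its generic point. -/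
theorem exists_generic [GrpObj G] (g : G.left) :
    ∃ ξ, IsMaxPt ξ ∧ connectedComponent g = closure {ξ} ∧
      topologicalKrullDim ↥(closure ({ξ} : Set G.left)) = topologicalKrullDim ↥G.left := by
  have : LocallyOfFiniteType (clFib G).hom :=
    inferInstanceAs (LocallyOfFiniteType (Limits.pullback.snd G.hom (clPt A)))
  let h := clHomeo G
  obtain ⟨ξ, hξ, hξg⟩ := GrpSchLib.exists_isMaxPt (h.symm g)
  have hmax : IsMaxPt (h ξ) := fun d hd => by
    have := hd.map h.symm.continuous
    rw [h.symm_apply_apply] at this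
    rw [← h.apply_symm_apply d, hξ _ this]
  have himg : h '' closure {ξ} = closure {h ξ} := by rw [h.image_closure, Set.image_singleton]
  have hd : topologicalKrullDim ↥(closure ({h ξ} : Set G.left)) =
      topologicalKrullDim ↥(closure ({ξ} : Set (clFib G).left)) := by
    rw [← himg]
    exact ((h.isEmbedding.homeomorphImage _)).isHomeomorph.topologicalKrullDim_eq.symm
  refine ⟨h ξ, hmax, ?_, ?_⟩
  · rw [← himg, ← GrpSchLib.connectedComponent_eq_closure hξ hξg, GrpSchLib.image_connectedComponent,
      h.apply_symm_apply]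
  · rw [hd, (S5341.result _ (clFib G)).1 _ (closure_mem_irreducibleComponents hξ)]
    exact h.isHomeomorph.topologicalKrullDim_eq

theorem topologicalKrullDim_closure_eq (X : Over (Spec (CommRingCat.of A))) [LocallyOfFiniteType X.hom] (x : X.left) :
    topologicalKrullDim ↥(closure ({x} : Set X.left)) = ((FibDim.rd X.hom x : ℕ∞) : WithBot ℕ∞) := by
  have : Subsingleton ↥(Spec (CommRingCat.of A)) := (inferInstance : Subsingleton (PrimeSpectrum A))
  exact FibDim.topologicalKrullDim_closure X.hom x

/-- Components of the target of a torsor under a subgroup. -/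
theorem components_quotient [GrpObj G] {X : Over (Spec (CommRingCat.of A))} {p : G ⟶ X}
    [Flat F.hom] [Surjective p.left] [Flat p.left] [LocallyOfFinitePresentation p.left]
    [LocallyOfFiniteType X.hom] {t : F ⊗ G ⟶ G} (hsq : IsPullback t (snd F G) p p) (x : X.left) :
    IsIrreducible (connectedComponent x) ∧ IsCompact (connectedComponent x) ∧
      topologicalKrullDim ↥(connectedComponent x) + topologicalKrullDim ↥F.left = topologicalKrullDim ↥G.left := by
  have hsubA : Subsingleton ↥(Spec (CommRingCat.of A)) := (inferInstance : Subsingleton (PrimeSpectrum A))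
  obtain ⟨g, rfl⟩ := p.left.surjective x
  obtain ⟨ξ, hξ, hgξ, hdim⟩ := exists_generic g
  let C := connectedComponent g
  have hC : IsClopen C := by
    have : IsLocallyNoetherian G.left := LocallyOfFiniteType.isLocallyNoetherian G.hom
    have := locallyConnectedSpace G.left
    exact ⟨isClosed_connectedComponent, isOpen_connectedComponent⟩
  have hsqL : IsPullback t.left (snd F G).left p.left p.left := hsq.map (Over.forget _)
  -- the saturation of a component is clopen
  have hsat : p.left ⁻¹' (p.left '' C) = (snd F G).left '' (t.left ⁻¹' C) := by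
    ext y
    constructor
    · rintro ⟨c, hc, hcy⟩
      obtain ⟨z, hz₁, hz₂⟩ := Scheme.exists_preimage_of_isPullback hsqL c y hcy
      exact ⟨z, by show t.left z ∈ C; rw [hz₁]; exact hc, hz₂⟩
    · rintro ⟨z, hz, rfl⟩
      exact ⟨t.left z, hz, by rw [← Scheme.Hom.comp_apply, hsqL.w, Scheme.Hom.comp_apply]⟩
  have himg : IsClopen (p.left '' C) := by
    refine ⟨isOpen_compl_iff.mp ?_, p.left.isOpenMap _ hC.isOpen⟩
    rw [← Set.image_preimage_eq (p.left '' C)ᶜ p.left.surjective, Set.preimage_compl, hsat]
    exact p.left.isOpenMap _ (isClopen_image_snd _ (hC.preimage t.left.continuous)).compl.isOpen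
  have hirr : IsIrreducible (p.left '' C) :=
    IsIrreducible.image ((show C = closure {ξ} from hgξ) ▸ isIrreducible_singleton.closure) _
      p.left.continuous.continuousOn
  have hcomp : connectedComponent (p.left g) = p.left '' C :=
    subset_antisymm (himg.connectedComponent_subset ⟨g, mem_connectedComponent, rfl⟩)
      (hirr.isConnected.isPreconnected.subset_connectedComponent ⟨g, mem_connectedComponent, rfl⟩)
  refine ⟨hcomp ▸ hirr, hcomp ▸ (S5345.result A G g).image p.left.continuous, ?_⟩
  have hclos : connectedComponent (p.left g) = closure {p.left ξ} := by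
    refine subset_antisymm ?_ (closure_minimal (Set.singleton_subset_iff.mpr ?_) isClosed_connectedComponent)
    · rw [hcomp, show C = closure {ξ} from hgξ]
      exact (image_closure_subset_closure_image p.left.continuous).trans (by rw [Set.image_singleton])
    · rw [hcomp]
      exact ⟨ξ, (show C = closure {ξ} from hgξ) ▸ subset_closure rfl, rfl⟩
  -- degrees
  have : LocallyOfFiniteType (p.left ≫ X.hom) := by rw [Over.w p]; infer_instance
  have hlftsnd : LocallyOfFiniteType (snd F G).left :=
    MorphismProperty.pullback_snd (P := @LocallyOfFiniteType) F.hom G.hom ‹_›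
  have hbc : IsPullback (fst F G).left (snd F G).left F.hom G.hom := IsPullback.of_hasPullback _ _
  have hξdeg : ((FibDim.rd G.hom ξ : ℕ∞) : WithBot ℕ∞) = topologicalKrullDim ↥G.left := by
    rw [← topologicalKrullDim_closure_eq, hdim]
  have hrd : ∀ y : G.left, FibDim.rd G.hom y = FibDim.rd X.hom (p.left y) + FibDim.rd p.left y := fun y => by
    rw [← FibDim.rd_comp, Over.w p]
  have hle : ∀ y : G.left, p.left y = p.left ξ → FibDim.rd p.left y ≤ FibDim.rd p.left ξ := fun y hy => by
    have h1 : ((FibDim.rd G.hom y : ℕ∞) : WithBot ℕ∞) ≤ ((FibDim.rd G.hom ξ : ℕ∞) : WithBot ℕ∞) := by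
      rw [hξdeg, FibDim.topologicalKrullDim_eq_iSup_rd G.hom]
      exact le_iSup (fun y => ((FibDim.rd G.hom y : ℕ∞) : WithBot ℕ∞)) y
    have h2 : FibDim.rd G.hom y ≤ FibDim.rd G.hom ξ := by exact_mod_cast h1
    rw [hrd y, hrd ξ, hy] at h2
    omega
  have hF : topologicalKrullDim ↥F.left = ((FibDim.rd p.left ξ : ℕ∞) : WithBot ℕ∞) := by
    rw [FibDim.topologicalKrullDim_eq_iSup_rd F.hom]
    refine le_antisymm (iSup_le fun φ => ?_) ?_
    · obtain ⟨z, -, hz₂, hz⟩ := FibDim.exists_rd_baseChange_eq hbc φ ξ (Subsingleton.elim _ _)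
      rw [← hz]
      have h1 := FibDim.rd_baseChange_le hsqL z
      have h2 := hle (t.left z) (by rw [← Scheme.Hom.comp_apply, hsqL.w, Scheme.Hom.comp_apply, hz₂])
      exact_mod_cast h1.trans h2
    · obtain ⟨z, -, -, hz⟩ := FibDim.exists_rd_baseChange_eq hsqL ξ ξ rfl
      rw [← hz]
      refine le_iSup_of_le ((fst F G).left z) ?_
      exact_mod_cast FibDim.rd_baseChange_le hbc z
  rw [hclos, topologicalKrullDim_closure_eq, hF, ← hξdeg, hrd ξ]
  push_cast
  rfl

end Artin

end Groth.Agent.SGAQuot20
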