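import Groth.Agent.SGAQuot20.MonoAffine

/-!
# Homomorphisms from algebraic groups to affine groups
-/

set_option backward.isDefEq.respectTransparency false
set_option backward.isDefEq.respectTransparency.types false

universe u

open CategoryTheory MonoidalCategory CartesianMonoidalCategory MonObj GrpObj AlgebraicGeometry

noncomputable section

namespace Groth.Agent.SGAQuot20

variable {k : Type u} [Field k]

/-- A homomorphism of an algebraic group to an affine group factors through a closed subgroup. -/
theorem exists_factor_affine {G G' : Over (Spec (CommRingCat.of k))} [GrpObj G] [GrpObj G']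
    [LocallyOfFiniteType G.hom] [QuasiCompact G.hom] [IsAffine G'.left] (u : G ⟶ G') [IsMonHom u] :
    ∃ (C : Over (Spec (CommRingCat.of k))) (_ : GrpObj C) (p : G ⟶ C) (i : C ⟶ G'), IsMonHom p ∧ IsMonHom i ∧
      p ≫ i = u ∧ Surjective p.left ∧ Flat p.left ∧ LocallyOfFinitePresentation p.left ∧
      IsClosedImmersion i.left ∧ IsAffine C.left ∧ LocallyOfFiniteType C.hom ∧ QuasiCompact C.hom := by
  have : IsAffineHom G'.hom := isAffineHom_of_isAffine G'.hom
  obtain ⟨N, _, j, _, hj, hnorm, hk⟩ := GrpSchLib.exists_kernel u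
  have : Mono j := (Over.forget _).mono_of_mono_map (inferInstanceAs (Mono j.left))
  have : LocallyOfFiniteType N.hom := by
    rw [← Over.w j]
    infer_instance
  have : Flat N.hom := inferInstance
  obtain ⟨C, gC, p, hp, hps, hpf, hplfp, -, hcos, -, hClft, -, hCqc, -⟩ := exists_quotient_normal j hnorm
  have hcov : FpqcDescLib.Covers p.left :=
    FpqcDescLib.covers_of_isCovering (FpqcDescLib.isCovering_of_lfp p.left)
  have hju : j ≫ u = 1 := hk.w
  obtain ⟨i, ⟨hpi, hi⟩, -⟩ := FpqcDescLib.exists_unique_hom hcov hcos u hju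
  have : Mono i := mono_of_quotient hcov hcos hk hpi
  have := hCqc inferInstance
  have hcl : IsClosedImmersion i.left := isClosedImmersion_of_mono_affine i
  exact ⟨C, gC, p, i, hp, hi, hpi, hps, hpf, hplfp, hcl, isAffine_of_isAffineHom i.left, hClft, this⟩

theorem isIso_of_appTop_injective {G C G' : Scheme.{u}} [IsAffine C] [IsAffine G'] (p : G ⟶ C) (i : C ⟶ G')
    [IsClosedImmersion i] (h : Function.Injective (p ≫ i).appTop.hom) : IsIso i := by
  have hs : Function.Surjective i.appTop.hom :=
    ((HasAffineProperty.iff_of_isAffine (P := @IsClosedImmersion) (f := i)).mp ‹_›).2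
  rw [Scheme.Hom.comp_appTop, CommRingCat.hom_comp, RingHom.coe_comp] at h
  have : IsIso i.appTop := (ConcreteCategory.isIso_iff_bijective i.appTop).mpr ⟨h.of_comp, hs⟩
  exact (HasAffineProperty.iff_of_isAffine (P := MorphismProperty.isomorphisms Scheme.{u}) (f := i)).mpr
    ⟨inferInstance, this⟩

end Groth.Agent.SGAQuot20
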