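import Groth.Agent.SGAQuot20.Squares
import Mathlib.AlgebraicGeometry.Morphisms.Finite
import Mathlib.AlgebraicGeometry.Morphisms.Integral

/-!
# The quotient of a group over a field by a subgroup with the same space is a point
-/

set_option backward.isDefEq.respectTransparency false
set_option backward.isDefEq.respectTransparency.types false

universe u

open CategoryTheory MonoidalCategory CartesianMonoidalCategory MonObj GrpObj AlgebraicGeometry

noncomputable section

namespace Groth.Agent.SGAQuot20

variable {k : Type u} [Field k] {F G X : Over (Spec (CommRingCat.of k))} [GrpObj G] {u : F ⟶ G}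

theorem subsingleton_quotient [Surjective u.left] {p : G ⟶ X} [Surjective p.left]
    (hp : IsPullback ((u ▷ G) ≫ μ[G]) (snd F G) p p) : Subsingleton X.left := by
  refine ⟨fun x y => ?_⟩
  obtain ⟨g, rfl⟩ := p.left.surjective x
  obtain ⟨h, rfl⟩ := p.left.surjective y
  let τ : G ⊗ G ≅ G ⊗ G :=
    { hom := lift (fst G G * snd G G) (snd G G)
      inv := lift (fst G G * (snd G G)⁻¹) (snd G G)
      hom_inv_id := by
        apply CartesianMonoidalCategory.hom_ext
        · simp [MonObj.comp_mul, GrpObj.comp_inv]
        · simp
      inv_hom_id := by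
        apply CartesianMonoidalCategory.hom_ext
        · simp [MonObj.comp_mul, GrpObj.comp_inv]
        · simp }
  have : IsIso τ.hom.left := ((Over.forget _).mapIso τ).isIso_hom
  obtain ⟨z, hz₁, hz₂⟩ := Scheme.exists_preimage_of_isPullback
    (IsPullback.of_hasPullback G.hom G.hom) g h (Subsingleton.elim (α := PrimeSpectrum k) _ _)
  obtain ⟨w, hw⟩ := τ.hom.left.surjective z
  obtain ⟨r, hr, -⟩ := Scheme.exists_preimage_of_isPullback (isPullback_whiskerRight_left u G) w
    (u.left.surjective ((fst G G).left w)).choose (u.left.surjective ((fst G G).left w)).choose_spec.symm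
  have e₁ : τ.hom ≫ fst G G = μ[G] := by
    simp [τ, Hom.mul_def]
  have h₁ : ((u ▷ G) ≫ μ[G]).left r = g := by
    rw [← e₁, Over.comp_left, Over.comp_left, Scheme.Hom.comp_apply, Scheme.Hom.comp_apply, hr, hw]
    exact hz₁
  have h₂ : (snd F G).left r = h := by
    rw [← whiskerRight_snd u G, Over.comp_left, Scheme.Hom.comp_apply, hr]
    have : (τ.hom ≫ snd G G).left w = h := by
      rw [Over.comp_left, Scheme.Hom.comp_apply, hw]
      exact hz₂
    rwa [show τ.hom ≫ snd G G = snd G G from lift_snd _ _] at this
  rw [← h₁, ← h₂, ← Scheme.Hom.comp_apply, ← Scheme.Hom.comp_apply, ← Over.comp_left, ← Over.comp_left, hp.w]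

/-- A point over a field with a rational point is the spectrum of a finite local algebra with trivial
residue extension. -/
theorem finite_local_of_subsingleton [LocallyOfFiniteType X.hom] [Subsingleton X.left] (e : 𝟙_ _ ⟶ X) :
    IsAffine X.left ∧ (∃ x : X.left, (Set.univ : Set X.left) = {x} ∧ IsIso (X.hom.residueFieldMap x)) ∧
      ((Scheme.ΓSpecIso (CommRingCat.of k)).inv ≫ X.hom.appTop).hom.Finite := by
  have he : e.left ≫ X.hom = 𝟙 _ := Over.w e
  have pt : (Spec (CommRingCat.of k) : Scheme.{u}) := IsLocalRing.closedPoint k
  let x : X.left := e.left pt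
  refine ⟨inferInstance, ⟨x, (Set.eq_univ_of_forall fun y => Subsingleton.elim y x).symm, ?_⟩, ?_⟩
  · have key : Function.Bijective (X.hom.residueFieldMap x ≫ e.left.residueFieldMap pt) := by
      have h : ∀ (f : Spec (CommRingCat.of k) ⟶ Spec (CommRingCat.of k)), f = 𝟙 _ →
          Function.Bijective (f.residueFieldMap pt) := by
        rintro f rfl
        rw [Scheme.residueFieldMap_id]
        exact Function.bijective_id
      have := h _ he
      rwa [Scheme.residueFieldMap_comp] at this
    refine (ConcreteCategory.isIso_iff_bijective _).mpr ⟨(X.hom.residueFieldMap x).hom.injective, fun y => ?_⟩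
    obtain ⟨z, hz⟩ := key.2 ((e.left.residueFieldMap pt).hom y)
    exact ⟨z, (e.left.residueFieldMap pt).hom.injective hz⟩
  · have : IsAffineHom X.hom := isAffineHom_of_isAffine X.hom
    let red := X.left.fromSpecResidueField x
    have : Surjective red := ⟨fun y => ⟨IsLocalRing.closedPoint _,
      (Scheme.fromSpecResidueField_apply x _).trans (Subsingleton.elim _ _)⟩⟩
    have : JacobsonSpace X.left := LocallyOfFiniteType.jacobsonSpace X.hom
    have hcl : IsClosed ({x} : Set X.left) := by
      rw [show ({x} : Set X.left) = Set.univ from Set.eq_univ_of_forall fun y => Subsingleton.elim y x]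
      exact isClosed_univ
    have := isClosed_singleton_iff_isClosedImmersion.mp hcl
    have : IsFinite (red ≫ X.hom) :=
      (isFinite_iff_locallyOfFiniteType_of_jacobsonSpace (f := red ≫ X.hom)).mpr inferInstance
    have : UniversallyClosed X.hom := UniversallyClosed.of_comp_surjective red X.hom
    have : IsIntegralHom X.hom := IsIntegralHom.iff_universallyClosed_and_isAffineHom.mpr ⟨inferInstance, inferInstance⟩
    have : IsFinite X.hom := (IsFinite.iff_isIntegralHom_and_locallyOfFiniteType _).mpr ⟨inferInstance, inferInstance⟩
    rw [CommRingCat.hom_comp]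
    exact X.hom.finite_appTop.comp
      (RingHom.Finite.of_surjective _ (Scheme.ΓSpecIso (CommRingCat.of k)).commRingCatIsoToRingEquiv.symm.surjective)

end Groth.Agent.SGAQuot20
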