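import Groth.Agent.SGAQuot20.Factor
import Mathlib.CategoryTheory.Monoidal.CommGrp_
import Mathlib.CategoryTheory.Abelian.Basic
import Mathlib.CategoryTheory.ObjectProperty.FullSubcategory
import Mathlib.CategoryTheory.Limits.Constructions.FiniteProductsOfBinaryProducts

/-!
# Categories of commutative algebraic groups over a field are abelian
-/

set_option backward.isDefEq.respectTransparency false
set_option backward.isDefEq.respectTransparency.types false

universe u

open CategoryTheory Limits MonoidalCategory CartesianMonoidalCategory MonObj GrpObj AlgebraicGeometry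

noncomputable section

namespace Groth.Agent.SGAQuot20

section Formal

variable {C : Type*} [Category C] [CartesianMonoidalCategory C] [BraidedCategory C]

theorem isCommMonObj_of_mono {N G : C} [MonObj N] [MonObj G] [IsCommMonObj G] (i : N ⟶ G) [IsMonHom i]
    [Mono i] : IsCommMonObj N := by
  refine ⟨?_⟩
  rw [← cancel_mono i, Category.assoc, IsMonHom.mul_hom, ← Category.assoc,
    ← BraidedCategory.braiding_naturality, Category.assoc, IsCommMonObj.mul_comm]

theorem isCommMonObj_of_epi {G Q : C} [MonObj Q] [MonObj G] [IsCommMonObj G] (p : G ⟶ Q) [IsMonHom p]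
    [Epi (p ⊗ₘ p)] : IsCommMonObj Q := by
  refine ⟨?_⟩
  rw [← cancel_epi (p ⊗ₘ p), ← Category.assoc, BraidedCategory.braiding_naturality, Category.assoc,
    ← IsMonHom.mul_hom, ← Category.assoc, IsCommMonObj.mul_comm]

theorem isNormalHom_of_comm {S : Scheme.{u}} {N G : Over S} [GrpObj N] [GrpObj G] [IsCommMonObj G] (i : N ⟶ G) :
    AlgGrp.IsNormalHom i := fun T g n => ⟨n, by rw [mul_comm g, _root_.mul_assoc, mul_inv_cancel, _root_.mul_one]⟩

theorem isMonHom_mul {X Y : C} [MonObj X] [MonObj Y] [IsCommMonObj Y] (f g : X ⟶ Y) [IsMonHom f] [IsMonHom g] :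
    IsMonHom (f * g) where
  one_hom := by simp [MonObj.comp_mul, MonObj.one_eq_one]
  mul_hom := by
    have key : ∀ a : X ⟶ Y, (a ⊗ₘ a) ≫ μ[Y] = (fst X X ≫ a) * (snd X X ≫ a) := fun a => by
      rw [Hom.mul_def, lift_fst_comp_snd_comp]
    rw [MonObj.comp_mul, IsMonHom.mul_hom f, IsMonHom.mul_hom g, key, key, key, MonObj.comp_mul, MonObj.comp_mul]
    exact mul_mul_mul_comm _ _ _ _

end Formal

section Cat

variable {S : Scheme.{u}} (P : ObjectProperty (CommGrp (Over S)))

/-- The morphism of schemes under a morphism of groups. -/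
abbrev toPt {X Y : P.FullSubcategory} (f : X ⟶ Y) : X.obj.X ⟶ Y.obj.X := f.hom.hom.hom.hom

instance isMonHom_toPt {X Y : P.FullSubcategory} (f : X ⟶ Y) : IsMonHom (toPt P f) :=
  f.hom.hom.hom.isMonHom_hom

/-- A homomorphism as a morphism of the subcategory. -/
def mkHom {X Y : P.FullSubcategory} (f : X.obj.X ⟶ Y.obj.X) [IsMonHom f] : X ⟶ Y :=
  ObjectProperty.homMk (InducedCategory.homMk (Grp.homMk f))

theorem toPt_mkHom {X Y : P.FullSubcategory} (f : X.obj.X ⟶ Y.obj.X) [IsMonHom f] : toPt P (mkHom P f) = f :=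
  rfl

theorem toPt_comp {X Y Z : P.FullSubcategory} (f : X ⟶ Y) (g : Y ⟶ Z) :
    toPt P (f ≫ g) = toPt P f ≫ toPt P g := rfl

theorem toPt_id (X : P.FullSubcategory) : toPt P (𝟙 X) = 𝟙 X.obj.X := rfl

theorem toPt_injective {X Y : P.FullSubcategory} {f g : X ⟶ Y} (h : toPt P f = toPt P g) : f = g :=
  ObjectProperty.hom_ext _ (CommGrp.hom_ext _ _ h)

instance (X Y : P.FullSubcategory) : Zero (X ⟶ Y) := ⟨mkHom P 1⟩

instance (X Y : P.FullSubcategory) : Add (X ⟶ Y) :=
  ⟨fun f g => letI := isMonHom_mul (toPt P f) (toPt P g); mkHom P (toPt P f * toPt P g)⟩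

instance (X Y : P.FullSubcategory) : Neg (X ⟶ Y) := ⟨fun f => mkHom P (toPt P f)⁻¹⟩

theorem toPt_zero (X Y : P.FullSubcategory) : toPt P (0 : X ⟶ Y) = 1 := rfl

theorem toPt_add {X Y : P.FullSubcategory} (f g : X ⟶ Y) : toPt P (f + g) = toPt P f * toPt P g := rfl

theorem toPt_neg {X Y : P.FullSubcategory} (f : X ⟶ Y) : toPt P (-f) = (toPt P f)⁻¹ := rfl

instance (X Y : P.FullSubcategory) : AddCommGroup (X ⟶ Y) where
  add_assoc a b c := toPt_injective P (by simp only [toPt_add, _root_.mul_assoc])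
  zero_add a := toPt_injective P (by rw [toPt_add, toPt_zero, _root_.one_mul])
  add_zero a := toPt_injective P (by rw [toPt_add, toPt_zero, _root_.mul_one])
  neg_add_cancel a := toPt_injective P (by rw [toPt_add, toPt_neg, toPt_zero, inv_mul_cancel])
  add_comm a b := toPt_injective P (by rw [toPt_add, toPt_add, mul_comm])
  nsmul := nsmulRec
  zsmul := zsmulRec

instance preadditive : Preadditive P.FullSubcategory where
  add_comp X Y Z f g h := toPt_injective P (by simp only [toPt_comp, toPt_add, MonObj.mul_comp])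
  comp_add X Y Z f g h := toPt_injective P (by simp only [toPt_comp, toPt_add, MonObj.comp_mul])

/-- A kernel of the underlying morphisms gives a kernel. -/
def isLimitKernel {X Y N : P.FullSubcategory} (f : X ⟶ Y) (i : N ⟶ X) (hk : AlgGrp.IsKernel (toPt P i) (toPt P f))
    (w : i ≫ f = 0) : IsLimit (KernelFork.ofι i w) :=
  have hmono : Mono (toPt P i) := ⟨fun a b hab => hk.hom_ext hab (toUnit_unique _ _)⟩
  have hex : ∀ {W : P.FullSubcategory} (g : W ⟶ X), g ≫ f = 0 → ∃ l : W ⟶ N, l ≫ i = g := fun {W} g hg => by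
    have hg' : toPt P g ≫ toPt P f = toUnit W.obj.X ≫ η[Y.obj.X] := by
      rw [← toPt_comp, hg, toPt_zero, Hom.one_def]
    let l := hk.lift (toPt P g) (toUnit _) hg'
    have hl : l ≫ toPt P i = toPt P g := hk.lift_fst _ _ _
    have : IsMonHom l := ⟨by rw [← cancel_mono (toPt P i), Category.assoc, hl, IsMonHom.one_hom, IsMonHom.one_hom],
      by rw [← cancel_mono (toPt P i), Category.assoc, hl, IsMonHom.mul_hom (toPt P g), Category.assoc,
        IsMonHom.mul_hom (toPt P i), tensorHom_comp_tensorHom_assoc, hl]⟩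
    exact ⟨mkHom P l, toPt_injective P hl⟩
  KernelFork.IsLimit.ofι i w (fun g hg => (hex g hg).choose) (fun g hg => (hex g hg).choose_spec)
    (fun g hg m hm => toPt_injective P ((cancel_mono (toPt P i)).mp (by
      rw [← toPt_comp, ← toPt_comp, hm, (hex g hg).choose_spec])))

variable (hunit : P (CommGrp.trivial (Over S)))
  (htensor : ∀ X Y : CommGrp (Over S), P X → P Y → P { X := X.X ⊗ Y.X })

include hunit htensor in
theorem hasFiniteProducts : HasFiniteProducts P.FullSubcategory := by
  have : HasTerminal P.FullSubcategory := by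
    let T : P.FullSubcategory := ⟨CommGrp.trivial (Over S), hunit⟩
    have (X : P.FullSubcategory) : Unique (X ⟶ T) :=
      { default := 0
        uniq := fun f => toPt_injective P (toUnit_unique _ _) }
    exact hasTerminal_of_unique T
  have : HasBinaryProducts P.FullSubcategory := by
    have hlim : ∀ X Y : P.FullSubcategory, HasLimit (pair X Y) := fun X Y => by
      let W : P.FullSubcategory := ⟨{ X := X.obj.X ⊗ Y.obj.X }, htensor _ _ X.property Y.property⟩
      have hl : ∀ {T : P.FullSubcategory} (f : T ⟶ X) (g : T ⟶ Y),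
          IsMonHom (lift (toPt P f) (toPt P g) : T.obj.X ⟶ W.obj.X) := fun f g => inferInstance
      exact ⟨⟨⟨BinaryFan.mk (mkHom P (fst X.obj.X Y.obj.X) : W ⟶ X) (mkHom P (snd X.obj.X Y.obj.X) : W ⟶ Y),
        BinaryFan.isLimitMk
          (fun s => letI := hl s.fst s.snd; mkHom P (lift (toPt P s.fst) (toPt P s.snd)))
          (fun s => toPt_injective P (lift_fst _ _)) (fun s => toPt_injective P (lift_snd _ _))
          (fun s m h₁ h₂ => toPt_injective P (CartesianMonoidalCategory.hom_ext _ _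
            ((congrArg (toPt P) h₁).trans (lift_fst _ _).symm)
            ((congrArg (toPt P) h₂).trans (lift_snd _ _).symm)))⟩⟩⟩
    exact hasBinaryProducts_of_hasLimit_pair _
  exact hasFiniteProducts_of_has_binary_and_terminal

end Cat

section Field

variable {k : Type u} [Field k]

local notation "𝒮" => Over (Spec (CommRingCat.of k))

/-- A homomorphism is, on points, the quotient by its kernel. -/
theorem isCosetMap_of_isKernel {N G Q : 𝒮} [GrpObj N] [GrpObj G] [GrpObj Q] {i : N ⟶ G} {q : G ⟶ Q} [IsMonHom q]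
    (hk : AlgGrp.IsKernel i q) : FpqcDescLib.IsCosetMap i q := fun T a b => by
  constructor
  · intro e
    have h : (a⁻¹ * b) ≫ q = toUnit T ≫ η[Q] := by
      rw [MonObj.mul_comp, GrpObj.inv_comp, e, inv_mul_cancel, Hom.one_def]
    refine ⟨hk.lift _ (toUnit T) h, ?_⟩
    rw [hk.lift_fst, mul_inv_cancel_left]
  · rintro ⟨h, rfl⟩
    have : i ≫ q = 1 := hk.w
    rw [MonObj.mul_comp, Category.assoc, this, MonObj.comp_one, _root_.mul_one]

theorem covers_of_fppf {X Y : Scheme.{u}} (f : X ⟶ Y) [Surjective f] [Flat f] [LocallyOfFinitePresentation f] :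
    FpqcDescLib.Covers f :=
  FpqcDescLib.covers_of_isCovering (FpqcDescLib.isCovering_of_lfp f)

/-- The quotient of a group of finite type by the image of a homomorphism. -/
theorem exists_cokernel {G H : 𝒮} [GrpObj G] [GrpObj H] [IsCommMonObj H] [LocallyOfFiniteType G.hom]
    [QuasiCompact G.hom] [LocallyOfFiniteType H.hom] (u : G ⟶ H) [IsMonHom u] :
    ∃ (C : 𝒮) (_ : GrpObj C) (p : G ⟶ C) (i : C ⟶ H) (Q : 𝒮) (_ : GrpObj Q) (q : H ⟶ Q),
      IsMonHom p ∧ IsMonHom i ∧ IsMonHom q ∧ IsCommMonObj Q ∧ p ≫ i = u ∧ Epi p ∧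
      Surjective p.left ∧ Flat p.left ∧ LocallyOfFinitePresentation p.left ∧ IsClosedImmersion i.left ∧
      Surjective q.left ∧ Flat q.left ∧ LocallyOfFinitePresentation q.left ∧
      AlgGrp.IsKernel i q ∧ LocallyOfFiniteType Q.hom ∧
      (QuasiCompact H.hom → QuasiCompact Q.hom) := by
  have : IsSeparated H.hom := GrpSchLib.HomFinite.isSeparated H
  have : QuasiCompact (u.left ≫ H.hom) := by rw [Over.w u]; infer_instance
  have : QuasiCompact u.left := QuasiCompact.of_comp u.left H.hom
  obtain ⟨C, gC, p, i, hp, hi, hpi, hpf, hps, hplfp, hic, hClft, -, -, -, -⟩ := exists_factor u ((fun {Z : Scheme.{u}} (f : Z ⟶ Spec (CommRingCat.of k)) => (inferInstance : Flat f)) _)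
  have : Mono i := (Over.forget _).mono_of_mono_map (inferInstanceAs (Mono i.left))
  obtain ⟨Q, gQ, q, hq, hqs, hqf, hqlfp, hk, -, -, hQlft, -, hQqc, -⟩ :=
    exists_quotient_normal i (isNormalHom_of_comm i)
  have hqcov := covers_of_fppf q.left
  have : Epi (q ⊗ₘ q) := by
    have := (FpqcDescLib.covers_whiskerRight hqcov H).over_epi
    have := (FpqcDescLib.covers_whiskerLeft hqcov Q).over_epi
    rw [MonoidalCategory.tensorHom_def]
    exact epi_comp _ _
  exact ⟨C, gC, p, i, Q, gQ, q, hp, hi, hq, isCommMonObj_of_epi q, hpi, (covers_of_fppf p.left).over_epi,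
    hps, hpf, hplfp, hic, hqs, hqf, hqlfp, hk, hQlft, hQqc⟩

variable (P : ObjectProperty (CommGrp (Over (Spec (CommRingCat.of k)))))

/-- A full subcategory of commutative algebraic groups stable under kernels, quotients and products is
abelian. -/
theorem nonempty_abelian (hP : ∀ X, P X → LocallyOfFiniteType X.X.hom ∧ QuasiCompact X.X.hom)
    (hunit : P (CommGrp.trivial 𝒮))
    (htensor : ∀ X Y : CommGrp 𝒮, P X → P Y → P { X := X.X ⊗ Y.X })
    (hsub : ∀ X Y : CommGrp 𝒮, P Y → ∀ i : X.X ⟶ Y.X, IsMonHom i → IsClosedImmersion i.left → P X)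
    (hquot : ∀ C X Y : CommGrp 𝒮, P X → ∀ (i : C.X ⟶ X.X) (q : X.X ⟶ Y.X), IsMonHom i → IsMonHom q →
      IsClosedImmersion i.left → Surjective q.left → Flat q.left → LocallyOfFinitePresentation q.left →
      AlgGrp.IsKernel i q → LocallyOfFiniteType Y.X.hom → QuasiCompact Y.X.hom → P Y) :
    Nonempty (Abelian P.FullSubcategory) := by
  have hlft : ∀ X : P.FullSubcategory, LocallyOfFiniteType X.obj.X.hom := fun X => (hP _ X.property).1
  have hqc : ∀ X : P.FullSubcategory, QuasiCompact X.obj.X.hom := fun X => (hP _ X.property).2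
  have hsep : ∀ X : P.FullSubcategory, IsSeparated X.obj.X.hom := fun X => GrpSchLib.HomFinite.isSeparated _
  -- kernels
  have hker : ∀ {X Y : P.FullSubcategory} (f : X ⟶ Y), ∃ (N : P.FullSubcategory) (i : N ⟶ X) (_ : i ≫ f = 0),
      AlgGrp.IsKernel (toPt P i) (toPt P f) := fun {X Y} f => by
    obtain ⟨N, gN, i, hi, hic, -, hk⟩ := GrpSchLib.exists_kernel (toPt P f)
    have : Mono i := (Over.forget _).mono_of_mono_map (inferInstanceAs (Mono i.left))
    let N' : P.FullSubcategory :=
      ⟨{ X := N, comm := isCommMonObj_of_mono i }, hsub _ X.obj X.property i hi hic⟩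
    exact ⟨N', mkHom P (X := N') i, toPt_injective P hk.w, hk⟩
  -- cokernels
  have hcok : ∀ {X Y : P.FullSubcategory} (f : X ⟶ Y), ∃ (C : 𝒮) (_ : GrpObj C) (p : X.obj.X ⟶ C) (i : C ⟶ Y.obj.X)
      (Q : P.FullSubcategory) (q : Y ⟶ Q) (_ : f ≫ q = 0), IsMonHom i ∧ p ≫ i = toPt P f ∧ Surjective p.left ∧
        Flat p.left ∧ LocallyOfFinitePresentation p.left ∧ IsClosedImmersion i.left ∧
        AlgGrp.IsKernel i (toPt P q) ∧
        ∀ {W : P.FullSubcategory} (g : Y ⟶ W), f ≫ g = 0 → ∃! d : Q ⟶ W, q ≫ d = g := fun {X Y} f => by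
    have := hlft X
    have := hqc X
    have := hlft Y
    obtain ⟨C, gC, p, i, Q, gQ, q, hp, hi, hq, hQc, hpi, hpe, hps, hpf, hplfp, hic, hqs, hqf, hqlfp, hk, hQlft, hQqc⟩ :=
      exists_cokernel (toPt P f)
    have : Mono i := (Over.forget _).mono_of_mono_map (inferInstanceAs (Mono i.left))
    let Q' : P.FullSubcategory := ⟨{ X := Q },
      hquot { X := C, comm := isCommMonObj_of_mono i } Y.obj _ Y.property i q hi hq hic hqs hqf hqlfp hk hQlft
        (hQqc (hqc Y))⟩
    have hiq : i ≫ q = 1 := hk.w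
    have hw : f ≫ mkHom P (Y := Q') q = 0 := toPt_injective P (by
      rw [toPt_comp, toPt_mkHom, ← hpi, Category.assoc, hiq, MonObj.comp_one, toPt_zero])
    refine ⟨C, gC, p, i, Q', mkHom P (Y := Q') q, hw, hi, hpi, hps, hpf, hplfp, hic, hk, fun {W} g hg => ?_⟩
    have hig : i ≫ toPt P g = 1 := by
      rw [← cancel_epi p, ← Category.assoc, hpi, ← toPt_comp, hg, toPt_zero, MonObj.comp_one]
    obtain ⟨d, ⟨hd, hdm⟩, huniq⟩ :=
      FpqcDescLib.exists_unique_hom (covers_of_fppf q.left) (isCosetMap_of_isKernel hk) (toPt P g) hig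
    refine ⟨mkHom P (X := Q') d, toPt_injective P hd, fun d' hd' => toPt_injective P ?_⟩
    exact huniq _ ⟨congrArg (toPt P) hd', isMonHom_toPt P d'⟩
  have : HasKernels P.FullSubcategory := ⟨fun {X Y} f => by
    obtain ⟨N, i, w, hk⟩ := hker f
    exact HasLimit.mk ⟨_, isLimitKernel P f i hk w⟩⟩
  have : HasCokernels P.FullSubcategory := ⟨fun {X Y} f => by
    obtain ⟨C, gC, p, i, Q, q, hw, -, -, -, -, -, -, -, hdesc⟩ := hcok f
    exact HasColimit.mk ⟨CokernelCofork.ofπ q hw, CokernelCofork.IsColimit.ofπ q hw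
      (fun g hg => (hdesc g hg).exists.choose) (fun g hg => (hdesc g hg).exists.choose_spec)
      (fun g hg m hm => (hdesc g hg).unique hm (hdesc g hg).exists.choose_spec)⟩⟩
  have : HasFiniteProducts P.FullSubcategory := hasFiniteProducts P hunit htensor
  have hNM : IsNormalMonoCategory P.FullSubcategory := ⟨fun {X Y} f _ => by
    obtain ⟨N, j, w, hk⟩ := hker f
    have hj : toPt P j = 1 := by
      rw [show j = 0 from Limits.zero_of_comp_mono f w, toPt_zero]
    have : Mono (toPt P f) := ⟨fun {T} a b hab => by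
      rw [← mul_inv_eq_one]
      have h : (a * b⁻¹) ≫ toPt P f = toUnit T ≫ η[Y.obj.X] := by
        rw [MonObj.mul_comp, GrpObj.inv_comp, hab, mul_inv_cancel, Hom.one_def]
      exact (hk.lift_fst (a * b⁻¹) (toUnit T) h).symm.trans ((congrArg (_ ≫ ·) hj).trans (MonObj.comp_one _))⟩
    have := hlft X
    have := hlft Y
    have := hsep Y
    have : QuasiCompact ((toPt P f).left ≫ Y.obj.X.hom) := by rw [Over.w (toPt P f)]; exact hqc X
    have : QuasiCompact (toPt P f).left := QuasiCompact.of_comp _ Y.obj.X.hom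
    have hcl : IsClosedImmersion (toPt P f).left := S3036.result k X.obj.X Y.obj.X (toPt P f)
    obtain ⟨Q, gQ, q, hq, hqs, hqf, hqlfp, hk', -, -, hQlft, -, hQqc, -⟩ :=
      exists_quotient_normal (toPt P f) (isNormalHom_of_comm _)
    have hqcov := covers_of_fppf q.left
    have : Epi (q ⊗ₘ q) := by
      have := (FpqcDescLib.covers_whiskerRight hqcov Y.obj.X).over_epi
      have := (FpqcDescLib.covers_whiskerLeft hqcov Q).over_epi
      rw [MonoidalCategory.tensorHom_def]
      exact epi_comp _ _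
    let Q' : P.FullSubcategory := ⟨{ X := Q, comm := isCommMonObj_of_epi q },
      hquot X.obj Y.obj _ Y.property (toPt P f) q inferInstance hq hcl hqs hqf hqlfp hk' hQlft (hQqc (hqc Y))⟩
    have w' : f ≫ mkHom P (Y := Q') q = 0 := toPt_injective P hk'.w
    exact ⟨{ Z := Q', g := mkHom P (Y := Q') q, w := w'
             isLimit := isLimitKernel P (mkHom P (Y := Q') q) f hk' w' }⟩⟩
  have hNE : IsNormalEpiCategory P.FullSubcategory := ⟨fun {X Y} f _ => by
    obtain ⟨C, gC, p, i, Q, q, hw, hi, hpi, hps, hpf, hplfp, hic, hk, -⟩ := hcok f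
    have hq : toPt P q = 1 := by
      rw [show q = 0 from Limits.zero_of_epi_comp f hw, toPt_zero]
    have hsec : ∃ s, s ≫ i = 𝟙 Y.obj.X := by
      have h : 𝟙 Y.obj.X ≫ toPt P q = toUnit _ ≫ η[Q.obj.X] := by rw [Category.id_comp, hq, Hom.one_def]
      exact ⟨hk.lift _ _ h, hk.lift_fst _ _ _⟩
    have : IsIso i := by
      obtain ⟨s, hs⟩ := hsec
      have : Mono i := (Over.forget _).mono_of_mono_map (inferInstanceAs (Mono i.left))
      exact ⟨s, by rw [← cancel_mono i, Category.assoc, hs, Category.id_comp, Category.comp_id], hs⟩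
    have : IsIso i.left := inferInstanceAs (IsIso ((Over.forget _).map i))
    have hfs : Surjective (toPt P f).left := by rw [← hpi, Over.comp_left]; infer_instance
    have hff : Flat (toPt P f).left := by rw [← hpi, Over.comp_left]; infer_instance
    have hfl : LocallyOfFinitePresentation (toPt P f).left := by rw [← hpi, Over.comp_left]; infer_instance
    obtain ⟨N, j, w, hkN⟩ := hker f
    have hd : ∀ {W : P.FullSubcategory} (g : X ⟶ W), j ≫ g = 0 → ∃! d : Y ⟶ W, f ≫ d = g := fun {W} g hg => by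
      obtain ⟨d, ⟨hd, hdm⟩, huniq⟩ := FpqcDescLib.exists_unique_hom (covers_of_fppf (toPt P f).left)
        (isCosetMap_of_isKernel hkN) (toPt P g) (congrArg (toPt P) hg)
      refine ⟨mkHom P d, toPt_injective P hd, fun d' hd' => toPt_injective P ?_⟩
      exact huniq _ ⟨congrArg (toPt P) hd', isMonHom_toPt P d'⟩
    exact ⟨{ W := N, g := j, w := w
             isColimit := CokernelCofork.IsColimit.ofπ f w
              (fun g hg => (hd g hg).exists.choose) (fun g hg => (hd g hg).exists.choose_spec)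
              (fun g hg m hm => (hd g hg).unique hm (hd g hg).exists.choose_spec) }⟩⟩
  exact ⟨{ toPreadditive := preadditive P, toIsNormalMonoCategory := hNM, toIsNormalEpiCategory := hNE }⟩

end Field

end Groth.Agent.SGAQuot20
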