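import Groth.Agent.GrpdThick.Descend
import Groth.Agent.GrpdLib.LargestInv

/-!
# Quotient over an invariant open from a quasi-section
-/

set_option backward.isDefEq.respectTransparency false
set_option backward.isDefEq.respectTransparency.types false

universe u

open CategoryTheory CategoryTheory.Limits AlgebraicGeometry Grpd
open Groth.Agent.GrpdLib Groth.Agent.GrpdThick

noncomputable section

namespace Groth.Agent.SGAQuot20

variable {S : Scheme.{u}} (G : GroupoidScheme S)

theorem arrow_ext [Mono G.j] {T : Scheme.{u}} (r r' : T ⟶ G.R) (h₁ : r ≫ G.t = r' ≫ G.t)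
    (h₂ : r ≫ G.s = r' ≫ G.s) : r = r' :=
  (cancel_mono G.j).1 (pullback.hom_ext (by simpa [GroupoidScheme.j] using h₁)
    (by simpa [GroupoidScheme.j] using h₂))

/-- The pullbacks of the arrows into a chart along the target and along the source agree. -/
theorem exists_isPullback_srcMap [Mono G.j] {U' : Scheme.{u}} (g : U' ⟶ G.U) :
    ∃ (XR : Scheme.{u}) (a b : XR ⟶ pullback G.t g) (q : XR ⟶ G.R),
      IsPullback a q (srcMap G g) G.s ∧ IsPullback b q (srcMap G g) G.t := by
  let b := pullback.fst (srcMap G g) G.t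
  let q := pullback.snd (srcMap G g) G.t
  obtain ⟨γ, hγt, hγs⟩ := exists_mul (b ≫ pullback.fst G.t g) q
    (by rw [Category.assoc]; exact pullback.condition)
  let a : pullback (srcMap G g) G.t ⟶ pullback G.t g :=
    pullback.lift γ (b ≫ pullback.snd G.t g) (by rw [hγt, Category.assoc, pullback.condition, Category.assoc])
  have ha₁ : a ≫ pullback.fst G.t g = γ := pullback.lift_fst ..
  have ha₂ : a ≫ pullback.snd G.t g = b ≫ pullback.snd G.t g := pullback.lift_snd ..
  have hw : a ≫ srcMap G g = q ≫ G.s := by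
    show a ≫ pullback.fst G.t g ≫ G.s = _
    rw [reassoc_of% ha₁, hγs]
  have hlift : ∀ c : PullbackCone (srcMap G g) G.s,
      ∃ m : c.pt ⟶ pullback (srcMap G g) G.t, m ≫ a = c.fst ∧ m ≫ q = c.snd := by
    intro c
    have hc : (c.fst ≫ pullback.fst G.t g) ≫ G.s = c.snd ≫ G.s := by rw [Category.assoc]; exact c.condition
    obtain ⟨δ, hδt, hδs⟩ := exists_mul (c.fst ≫ pullback.fst G.t g) (c.snd ≫ G.i)
      (by rw [hc, Category.assoc, G.i_t])
    rw [Category.assoc c.snd, G.i_s] at hδs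
    let b' : c.pt ⟶ pullback G.t g :=
      pullback.lift δ (c.fst ≫ pullback.snd G.t g) (by rw [hδt, Category.assoc, pullback.condition, Category.assoc])
    let m : c.pt ⟶ pullback (srcMap G g) G.t :=
      pullback.lift b' c.snd (by
        show b' ≫ pullback.fst G.t g ≫ G.s = _
        rw [pullback.lift_fst_assoc, hδs])
    have hmb : m ≫ b = b' := pullback.lift_fst ..
    have hmq : m ≫ q = c.snd := pullback.lift_snd ..
    refine ⟨m, pullback.hom_ext (arrow_ext G _ _ ?_ ?_) ?_, hmq⟩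
    · rw [Category.assoc, Category.assoc, reassoc_of% ha₁, hγt, Category.assoc, reassoc_of% hmb,
        pullback.lift_fst_assoc, hδt, Category.assoc]
    · rw [Category.assoc, Category.assoc, reassoc_of% ha₁, hγs, reassoc_of% hmq]
      exact hc.symm.trans (Category.assoc ..)
    · rw [Category.assoc, ha₂, reassoc_of% hmb, pullback.lift_snd]
  have huniq : ∀ {T : Scheme.{u}} (m m' : T ⟶ pullback (srcMap G g) G.t),
      m ≫ a = m' ≫ a → m ≫ q = m' ≫ q → m = m' := by
    intro T m m' h h'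
    have hγ : m ≫ γ = m' ≫ γ := by
      rw [← ha₁, ← Category.assoc, h, Category.assoc]
    refine pullback.hom_ext (pullback.hom_ext (arrow_ext G _ _ ?_ ?_) ?_) h'
    · simp only [Category.assoc] at hγt ⊢
      rw [← hγt, reassoc_of% hγ]
    · have e : b ≫ pullback.fst G.t g ≫ G.s = q ≫ G.t := pullback.condition
      simp only [Category.assoc]
      rw [e, reassoc_of% h']
    · simp only [Category.assoc]
      rw [← ha₂, reassoc_of% h]
  choose l hl₁ hl₂ using hlift
  exact ⟨_, a, b, q, ⟨⟨hw⟩, ⟨PullbackCone.IsLimit.mk _ l hl₁ hl₂ fun c m h₁ h₂ =>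
    huniq _ _ (h₁.trans (hl₁ c).symm) (h₂.trans (hl₂ c).symm)⟩⟩, IsPullback.of_hasPullback _ _⟩

/-- A quasi-section over an invariant open gives an fppf quotient of this open. -/
theorem exists_quotData_of_quasiSection [Mono G.j] [Flat G.s] [LocallyOfFinitePresentation G.s] [Flat G.t]
    [LocallyOfFinitePresentation G.t] (W : G.U.Opens) (hW : IsInv G W) {U' : Scheme.{u}} (g : U' ⟶ G.U)
    (σ : pullback G.t g ⟶ W.toScheme) (hσ : σ ≫ W.ι = srcMap G g)
    [IsFinite σ] [Flat σ] [LocallyOfFinitePresentation σ] [Surjective σ]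
    (h2 : ∀ E : Set U', (∀ x ∈ E, ∀ y ∈ E, ∃ r : G.R, G.t r = g x ∧ G.s r = g y) →
      ∃ V : U'.Opens, IsAffineOpen V ∧ E ⊆ (V : Set U')) :
    Nonempty (QuotData G W) := by
  let g' : U' ⟶ W.toScheme := unitV G g ≫ σ
  have hg' : g' ≫ W.ι = g := by rw [Category.assoc, hσ, unitV_src]
  let G₁ := restrict G W hW
  have hT : IsPullback (G.s ⁻¹ᵁ W).ι (resT G W hW) G.t W.ι :=
    (IsOpenImmersion.isPullback (resT G W hW) (G.s ⁻¹ᵁ W).ι W.ι G.t (resT_ι G W hW).symm (by
      ext z
      rw [Scheme.Opens.opensRange_ι, Scheme.Opens.opensRange_ι]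
      exact (hW.mem_iff z).symm)).flip
  have : Flat G₁.t := MorphismProperty.of_isPullback (P := @Flat) hT ‹_›
  have : LocallyOfFinitePresentation G₁.t :=
    MorphismProperty.of_isPullback (P := @LocallyOfFinitePresentation) hT ‹_›
  have : Mono G₁.j := mono_j_restrict G W hW
  have hP : IsPullback (pullback.fst G₁.t g' ≫ (G.s ⁻¹ᵁ W).ι) (pullback.snd G₁.t g') G.t g := by
    have := (IsPullback.of_hasPullback (resT G W hW) g').paste_horiz hT
    rw [hg'] at this
    exact this
  let e := hP.isoPullback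
  have hsrc : srcMap G₁ g' = e.hom ≫ σ := by
    rw [← cancel_mono W.ι, Category.assoc, hσ]
    show (pullback.fst G₁.t g' ≫ resS G W) ≫ W.ι = _
    rw [Category.assoc, resS_ι, srcMap, IsPullback.isoPullback_hom_fst_assoc, Category.assoc]
  have : IsFinite (srcMap G₁ g') := by rw [hsrc]; infer_instance
  have : Flat (srcMap G₁ g') := by rw [hsrc]; infer_instance
  have : LocallyOfFinitePresentation (srcMap G₁ g') := by rw [hsrc]; infer_instance
  have : Surjective (srcMap G₁ g') := by rw [hsrc]; infer_instance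
  let G' := pullBackGrpd G₁ g'
  have : IsFinite G'.s := inferInstanceAs (IsFinite (pullback.snd (srcMap G₁ g') g'))
  have : Flat G'.s := inferInstanceAs (Flat (pullback.snd (srcMap G₁ g') g'))
  have : LocallyOfFinitePresentation G'.s :=
    inferInstanceAs (LocallyOfFinitePresentation (pullback.snd (srcMap G₁ g') g'))
  have hb : ∀ x : G'.U, ∃ V : G'.U.Opens, IsAffineOpen V ∧ G'.t.base '' (G'.s.base ⁻¹' {x}) ⊆ (V : Set G'.U) := by
    intro x
    refine h2 _ ?_
    rintro _ ⟨r₁, hr₁, rfl⟩ _ ⟨r₂, hr₂, rfl⟩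
    have hr₁' : G'.s r₁ = x := hr₁
    have hr₂' : G'.s r₂ = x := hr₂
    obtain ⟨r, ht, hs⟩ := GrpdLib.exists_comp G' r₁ (G'.i r₂) (by
      rw [← Scheme.Hom.comp_apply, G'.i_t, hr₁', hr₂'])
    rw [← Scheme.Hom.comp_apply, G'.i_s] at hs
    refine ⟨(G.s ⁻¹ᵁ W).ι (pbMid G₁ g' r), ?_, ?_⟩
    · rw [← hg', Scheme.Hom.comp_apply, ← Scheme.Hom.comp_apply (G.s ⁻¹ᵁ W).ι, ← resT_ι G W hW,
        Scheme.Hom.comp_apply]
      congr 1
      show G₁.t (pbMid G₁ g' r) = _
      rw [← Scheme.Hom.comp_apply, pbMid_t, Scheme.Hom.comp_apply]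
      exact congrArg g' ht
    · rw [← hg', Scheme.Hom.comp_apply, ← Scheme.Hom.comp_apply (G.s ⁻¹ᵁ W).ι, ← resS_ι G W,
        Scheme.Hom.comp_apply]
      congr 1
      show G₁.s (pbMid G₁ g' r) = _
      rw [← Scheme.Hom.comp_apply, pbMid_s, Scheme.Hom.comp_apply]
      exact congrArg g' hs
  have hc := exists_invAff hb
  obtain ⟨q, hq⟩ := exists_quotMap G' hc
  have wq : pbT G₁ g' ≫ q = pbS G₁ g' ≫ q := quotMap_w hq hc
  obtain ⟨p, hp, hup⟩ := exists_descend wq
  have : Mono G'.j := mono_j_pullBackGrpd G₁ g'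
  obtain ⟨_, hqf, hql⟩ := isFinLocFree_quotMap hq hc
  have hqs : Surjective q := ⟨surjective_quotMap hq hc⟩
  have hps : Surjective p := ⟨fun y => by
    obtain ⟨x, rfl⟩ := hqs.surj y
    exact ⟨g' x, (Scheme.Hom.comp_apply g' p x).symm.trans (congrArg (fun φ => φ x) hup)⟩⟩
  have hpf : Flat p := GrpdLib.flat_of_flat_comp (srcMap G₁ g') p (by rw [hp]; infer_instance)
  have : LocallyOfFinitePresentation (srcMap G₁ g' ≫ p) := by rw [hp]; infer_instance
  have hpl : LocallyOfFinitePresentation p :=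
    SrcDescent.locallyOfFinitePresentation_of_fppf_comp (srcMap G₁ g') p
  exact ⟨{ inv := hW, M := _, π := p, surj := hps, flat := hpf, lfp := hpl,
           isPullback := isPullback_desc hp (isPullback_quotMap hq hc (quotMap_w hq hc)) (desc_w hp) }⟩

/-- A chart whose arrows are finite locally free and surjective over an invariant open gives a quotient
of this open. -/
theorem exists_quotData_of_chartOver [Mono G.j] [Flat G.s] [LocallyOfFinitePresentation G.s] [Flat G.t]
    [LocallyOfFinitePresentation G.t] (O : G.U.Opens) (hO : IsInv G O) {U' : Scheme.{u}} [IsAffine U']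
    (g : U' ⟶ G.U) [IsFinite (srcMap G g ∣_ O)] [Flat (srcMap G g ∣_ O)]
    [LocallyOfFinitePresentation (srcMap G g ∣_ O)] [Surjective (srcMap G g ∣_ O)] :
    Nonempty (QuotData G O) := by
  let U₂ : U'.Opens := g ⁻¹ᵁ O
  let g₂ : U₂.toScheme ⟶ G.U := U₂.ι ≫ g
  let j : pullback G.t g₂ ⟶ pullback G.t g :=
    pullback.map G.t g₂ G.t g (𝟙 _) U₂.ι (𝟙 _) (by simp) (by simp [g₂])
  have hj₁ : j ≫ pullback.fst G.t g = pullback.fst G.t g₂ := by simp [j]
  have hj₂ : j ≫ pullback.snd G.t g = pullback.snd G.t g₂ ≫ U₂.ι := by simp [j]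
  have hjs : j ≫ srcMap G g = srcMap G g₂ := by rw [srcMap, reassoc_of% hj₁]; rfl
  have hsqj : IsPullback j (pullback.snd G.t g₂) (pullback.snd G.t g) U₂.ι := by
    refine IsPullback.of_right (h₁₂ := pullback.fst G.t g) ?_ hj₂ (IsPullback.of_hasPullback G.t g).flip.flip
    rw [hj₁]
    exact IsPullback.of_hasPullback G.t g₂
  have : IsOpenImmersion j := MorphismProperty.of_isPullback (P := @IsOpenImmersion) hsqj.flip inferInstance
  have hrange : j.opensRange = srcMap G g ⁻¹ᵁ O := by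
    ext z
    have hz : srcMap G g z ∈ O ↔ pullback.snd G.t g z ∈ U₂ := by
      show _ ↔ g (pullback.snd G.t g z) ∈ O
      rw [srcMap, Scheme.Hom.comp_apply, hO.mem_iff, ← Scheme.Hom.comp_apply, pullback.condition,
        Scheme.Hom.comp_apply]
    refine ⟨?_, fun h => ?_⟩
    · rintro ⟨w, rfl⟩
      refine hz.2 ?_
      rw [← Scheme.Hom.comp_apply, hj₂, Scheme.Hom.comp_apply]
      exact (pullback.snd G.t g₂ w).2
    · obtain ⟨w, hw, -⟩ := Scheme.exists_preimage_of_isPullback hsqj z ⟨_, hz.1 h⟩ rfl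
      exact ⟨w, hw⟩
  let e : pullback G.t g₂ ≅ (srcMap G g ⁻¹ᵁ O).toScheme :=
    IsOpenImmersion.isoOfRangeEq j (srcMap G g ⁻¹ᵁ O).ι (by
      rw [Scheme.Opens.range_ι, ← hrange]; rfl)
  let σ : pullback G.t g₂ ⟶ O.toScheme := e.hom ≫ (srcMap G g ∣_ O)
  have hσ : σ ≫ O.ι = srcMap G g₂ := by
    rw [Category.assoc, morphismRestrict_ι, IsOpenImmersion.isoOfRangeEq_hom_fac_assoc, hjs]
  refine exists_quotData_of_quasiSection G O hO g₂ σ hσ fun E hE => ?_
  have hEf : E.Finite := by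
    rcases E.eq_empty_or_nonempty with rfl | ⟨y, hy⟩
    · exact Set.finite_empty
    refine (((σ.finite_preimage_singleton ⟨g₂ y, y.2⟩).image (pullback.snd G.t g₂))).subset fun x hx => ?_
    obtain ⟨r, hrt, hrs⟩ := hE x hx y hy
    obtain ⟨z, hz₁, hz₂⟩ := Scheme.Pullback.exists_preimage_pullback r x hrt
    refine ⟨z, Subtype.ext ?_, hz₂⟩
    show O.ι (σ z) = _
    rw [← Scheme.Hom.comp_apply, hσ, srcMap, Scheme.Hom.comp_apply, hz₁, hrs]
  obtain ⟨f, hf₁, hf₂⟩ := exists_basicOpen_of_finite (isAffineOpen_top U') (hEf.image U₂.ι) U₂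
    (fun _ _ => trivial) (by rintro _ ⟨x, -, rfl⟩; exact x.2)
  refine ⟨U₂.ι ⁻¹ᵁ U'.basicOpen f,
    ((isAffineOpen_top U').basicOpen f).preimage_of_isOpenImmersion U₂.ι (by
      rw [Scheme.Opens.opensRange_ι]; exact hf₂), fun x hx => hf₁ ⟨x, hx, rfl⟩⟩

end Groth.Agent.SGAQuot20
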