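import Groth.Agent.SGAQuot20.Squares
import Groth.Agent.SGAQuot20.Chart
import Groth.Agent.AlgSpDec.SliceCover
import Groth.Agent.AlgSpDec.ActQuotient
import Groth.Agent.MorLib.GenFinite
import Groth.Agent.AlgSpPts.FppfTarget
import Groth.Agent.AlgSpPts.Quot
import Groth.Agent.EtFound.Descent
import Groth.Agent.GrpSchLib.FieldAllComp
import Groth.Agent.S5331
import Groth.Agent.S2080

/-!
# A quasi-section of the left translations by a subgroup of a group over a field
-/

set_option backward.isDefEq.respectTransparency false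
set_option backward.isDefEq.respectTransparency.types false

universe u

open CategoryTheory MonoidalCategory CartesianMonoidalCategory MonObj GrpObj AlgebraicGeometry
open Groth.Agent.GrpSchLib (IsMaxPt exists_isMaxPt connectedComponent_eq_closure)

noncomputable section

namespace Groth.Agent.SGAQuot20

variable {k : Type u} [Field k]

variable {F G : Over (Spec (CommRingCat.of k))} [GrpObj F] [GrpObj G] (u : F ⟶ G) [IsMonHom u]

theorem closure_mem_irreducibleComponents {X : Scheme.{u}} {ξ : X} (hξ : IsMaxPt ξ) :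
    closure {ξ} ∈ irreducibleComponents X := by
  refine ⟨isIrreducible_singleton.closure, fun T hT hle => ?_⟩
  have hg := hT.isGenericPoint_genericPoint_closure
  have h1 : hT.genericPoint = ξ := hξ _ (hg.specializes (subset_closure (hle (subset_closure rfl))))
  exact fun x hx => by
    rw [← h1]
    exact (hg.specializes (subset_closure hx)).mem_closed isClosed_closure (subset_closure rfl)

theorem isFiniteLocal : CategoryTheory.MorphismProperty.IsLocalAtTarget (@IsFinite : MorphismProperty Scheme.{u}) Scheme.fppfPrecoverage := by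
  have := EtFound.fpqc_isFinite.{u}
  exact AlgSpPts.isLocalAtTarget_fppf @IsFinite

/-- An affine chart whose arrows are finite flat over an invariant open containing the generic point
of the component of a given point. -/
theorem exists_chart [Mono u] [IsSeparated F.hom] [QuasiCompact u.left] [LocallyOfFiniteType F.hom]
    [LocallyOfFiniteType G.hom] (x : G.left) :
    ∃ (U : Over (Spec (CommRingCat.of k))) (g : U ⟶ G) (W : G.left.Opens) (ξ : G.left),
      IsAffine U.left ∧ LocallyOfFiniteType U.hom ∧ GrpdLib.IsInv (lgpd u) W ∧ ξ ∈ W ∧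
      IsMaxPt ξ ∧ connectedComponent x = closure {ξ} ∧
      Flat (srcPhi u g).left ∧ LocallyOfFinitePresentation (srcPhi u g).left ∧
      IsFinite ((srcPhi u g).left ∣_ W) ∧ Surjective ((srcPhi u g).left ∣_ W) := by
  let s : F ⊗ G ⟶ G := snd F G
  let t : F ⊗ G ⟶ G := (leftAct u).act
  have hFflat : Flat F.hom := inferInstance
  have hFlfp : LocallyOfFinitePresentation F.hom := inferInstance
  have : Flat s.left := property_s u @Flat hFflat
  have : Flat t.left := property_t u @Flat hFflat
  have : LocallyOfFinitePresentation s.left := property_s u @LocallyOfFinitePresentation hFlfp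
  have : LocallyOfFinitePresentation t.left := property_t u @LocallyOfFinitePresentation hFlfp
  have heq : AlgSp.IsEqvRel s t := AlgSpDec.ActQuotient.isEqvRel (leftAct u) (free u)
  obtain ⟨U', g, hg, hsurj, hflat, hqf, hlfp⟩ :=
    AlgSpDec.Slice.exists_slice_cover (AlgSpPts.isPullback_quotMap heq)
  obtain ⟨z, hz⟩ := hsurj.surj x
  let u₀ : U'.left := (Limits.pullback.fst g t).left z
  obtain ⟨U₀, hU₀, hu₀, -⟩ := exists_isAffineOpen_mem_and_subset (U := (⊤ : U'.left.Opens)) (x := u₀) trivial
  have : IsAffine U₀.toScheme := hU₀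
  let U : Over (Spec (CommRingCat.of k)) := Over.mk (U₀.ι ≫ U'.hom)
  let i : U ⟶ U' := Over.homMk U₀.ι rfl
  let g₀ : U ⟶ G := i ≫ g
  have : LocallyOfFiniteType U'.hom := by
    rw [← Over.w g]
    infer_instance
  have : IsAffine U.left := hU₀
  have : LocallyOfFiniteType U.hom := inferInstanceAs (LocallyOfFiniteType (U₀.ι ≫ U'.hom))
  -- the arrows into the chart are an open part of the arrows into the slice
  have hsq : IsPullback (Limits.pullback.snd g t).left (Limits.pullback.fst g t).left t.left g.left :=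
    ((IsPullback.of_hasPullback g t).map (Over.forget (Spec (CommRingCat.of k)))).flip
  let P₀ := Limits.pullback t.left g₀.left
  let j : P₀ ⟶ (Limits.pullback g t).left :=
    hsq.lift (Limits.pullback.fst t.left g₀.left) (Limits.pullback.snd t.left g₀.left ≫ U₀.ι) (by
      rw [Category.assoc]; exact Limits.pullback.condition)
  have hj₁ : j ≫ (Limits.pullback.snd g t).left = Limits.pullback.fst t.left g₀.left := hsq.lift_fst ..
  have hj₂ : j ≫ (Limits.pullback.fst g t).left = Limits.pullback.snd t.left g₀.left ≫ U₀.ι := hsq.lift_snd ..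
  have hsqj : IsPullback j (Limits.pullback.snd t.left g₀.left) (Limits.pullback.fst g t).left U₀.ι := by
    refine IsPullback.of_right (h₁₂ := (Limits.pullback.snd g t).left) ?_ hj₂ hsq
    rw [hj₁]
    exact IsPullback.of_hasPullback t.left g₀.left
  have : IsOpenImmersion j := MorphismProperty.of_isPullback (P := @IsOpenImmersion) hsqj.flip inferInstance
  let f : P₀ ⟶ G.left := GrpdLib.srcMap (lgpd u) g₀.left
  have hf : f = j ≫ (Limits.pullback.snd g t ≫ s).left := by
    show Limits.pullback.fst t.left g₀.left ≫ s.left = _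
    rw [← hj₁, Category.assoc]
    rfl
  have : Flat f := by rw [hf]; infer_instance
  have : LocallyOfFinitePresentation f := by rw [hf]; infer_instance
  have : LocallyQuasiFinite f := by rw [hf]; infer_instance
  have hGsep : IsSeparated G.hom := S5331.result (Spec (CommRingCat.of k)) G
  have : QuasiSeparatedSpace G.left := (quasiSeparated_iff_quasiSeparatedSpace G.hom).mp inferInstance
  have : IsSeparated (Limits.pullback.snd t.left g₀.left) :=
    MorphismProperty.pullback_snd (P := @IsSeparated) _ _ (property_t u @IsSeparated ‹_›)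
  have : QuasiCompact f := by
    have : QuasiCompact U.hom := inferInstance
    have := quasiCompact_srcPhi u g₀
    obtain ⟨e, he⟩ := exists_srcPhi_iso u g₀
    rw [show f = e.hom ≫ (srcPhi u g₀).left from he.symm]
    infer_instance
  have : IsSeparated f := by
    have hc : f ≫ G.hom = Limits.pullback.snd t.left g₀.left ≫ U.hom := by
      show (Limits.pullback.fst t.left g₀.left ≫ s.left) ≫ G.hom = _
      rw [Category.assoc, Over.w s, ← Over.w t, ← Category.assoc, Limits.pullback.condition, Category.assoc,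
        Over.w g₀]
    have : IsSeparated (f ≫ G.hom) := by rw [hc]; infer_instance
    exact IsSeparated.of_comp f G.hom
  -- the largest open over which they are finite
  let W : G.left.Opens := ⨆ V : {V : G.left.Opens // IsFinite (f ∣_ V)}, V.1
  have hWfin : IsFinite (f ∣_ W) := MorLib.GenFinite.isFinite_iSup f _ fun V => V.2
  have hWmax : ∀ V : G.left.Opens, IsFinite (f ∣_ V) → V ≤ W := fun V hV =>
    le_iSup (fun V : {V : G.left.Opens // IsFinite (f ∣_ V)} => V.1) ⟨V, hV⟩
  have : Mono (lgpd u).j := mono_j u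
  obtain ⟨XR, a, b, q, ha, hb⟩ := exists_isPullback_srcMap (lgpd u) g₀.left
  have hinvW : GrpdLib.IsInv (lgpd u) W := by
    have : MorphismProperty.IsLocalAtTarget (@IsFinite : MorphismProperty Scheme.{u})
        (Scheme.precoverage (@Flat ⊓ @LocallyOfFinitePresentation)) := isFiniteLocal
    refine GrpdLib.isInv_largest (lgpd u)
      (Q := (@Flat ⊓ @LocallyOfFinitePresentation : MorphismProperty Scheme.{u}))
      (fun i _ g ⟨_, _⟩ => ⟨inferInstance, inferInstance⟩) (fun g ⟨_, _⟩ => g.isOpenMap)
      ⟨‹Flat s.left›, ‹LocallyOfFinitePresentation s.left›⟩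
      ⟨‹Flat t.left›, ‹LocallyOfFinitePresentation t.left›⟩ f ha hb W hWfin hWmax
  -- the image
  let I : G.left.Opens := ⟨Set.range f, f.isOpenMap.isOpen_range⟩
  have hIinv : GrpdLib.IsInv (lgpd u) I := by
    refine GrpdLib.isInv_of_mem (G := lgpd u) fun r hr => ?_
    obtain ⟨w, hw⟩ : (lgpd u).s r ∈ Set.range f := hr
    obtain ⟨m, -, hm⟩ := Scheme.exists_preimage_of_isPullback ha w r hw
    refine ⟨b m, ?_⟩
    refine (Scheme.Hom.comp_apply b f m).symm.trans ?_
    rw [hb.w, Scheme.Hom.comp_apply, hm]
    rfl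
  obtain ⟨ξ, hξ, hξx⟩ := exists_isMaxPt x
  have hxI : x ∈ I := by
    obtain ⟨w, hw, -⟩ := Scheme.exists_preimage_of_isPullback hsqj z ⟨u₀, hu₀⟩ rfl
    exact ⟨w, by rw [hf, Scheme.Hom.comp_apply, hw]; exact hz⟩
  have hξI : ξ ∈ I := hξx.mem_open I.isOpen hxI
  obtain ⟨V, -, hξV, hV⟩ := (S2080.result f ξ (closure_mem_irreducibleComponents hξ)).mp
    (f.finite_preimage_singleton ξ)
  obtain ⟨e, he⟩ := exists_srcPhi_iso u g₀
  have hφ : (srcPhi u g₀).left = e.inv ≫ f := by rw [← Iso.inv_hom_id_assoc e (srcPhi u g₀).left, he]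
  refine ⟨U, g₀, W ⊓ I, ξ, inferInstance, inferInstance, ?_, ⟨hWmax V hV hξV, hξI⟩, hξ,
    connectedComponent_eq_closure hξ hξx, ?_, ?_, ?_, ⟨fun w => ?_⟩⟩
  · exact GrpdLib.isInv_of_mem (G := lgpd u) fun r hr => ⟨(hinvW.mem_iff r).1 hr.1, (hIinv.mem_iff r).1 hr.2⟩
  · rw [hφ]; infer_instance
  · rw [hφ]; infer_instance
  · rw [hφ]
    have := property_restrict_of_le @IsFinite f (inf_le_left : W ⊓ I ≤ W) hWfin
    rw [morphismRestrict_comp]
    infer_instance
  · obtain ⟨p, hp⟩ := w.2.2
    refine ⟨⟨e.hom p, ?_⟩, Subtype.ext ?_⟩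
    · show (srcPhi u g₀).left (e.hom p) ∈ W ⊓ I
      rw [← Scheme.Hom.comp_apply, he]
      exact hp ▸ w.2
    · show ((srcPhi u g₀).left ∣_ (W ⊓ I) ≫ (W ⊓ I).ι) _ = _
      rw [morphismRestrict_ι, Scheme.Hom.comp_apply]
      show (srcPhi u g₀).left (e.hom p) = w.1
      rw [← Scheme.Hom.comp_apply, he]
      exact hp

end Groth.Agent.SGAQuot20
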