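import Groth.Agent.SGAQuot20.Factor
import Groth.Agent.GrpSchLib.ProPoints
import Groth.Agent.GrpSchLib.AffineHopf

/-!
# Monomorphisms from algebraic groups into affine groups
-/

set_option backward.isDefEq.respectTransparency false
set_option backward.isDefEq.respectTransparency.types false

universe u

open CategoryTheory MonoidalCategory CartesianMonoidalCategory MonObj GrpObj AlgebraicGeometry

noncomputable section

namespace Groth.Agent.SGAQuot20

/-- Two morphisms from a noetherian scheme to an affine scheme agree on a test scheme as soon as they do so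
on finitely many functions. -/
theorem exists_finset_test {C Y : Scheme.{u}} [IsAffine Y] [CompactSpace C] [IsLocallyNoetherian C] (f g : C ⟶ Y) :
    ∃ s : Finset Γ(Y, ⊤), ∀ {T : Scheme.{u}} (w : T ⟶ C),
      (∀ a ∈ s, (w ≫ f).appTop a = (w ≫ g).appTop a) → w ≫ f = w ≫ g := by
  classical
  let δ : Γ(Y, ⊤) → Γ(C, ⊤) := fun a => f.appTop a - g.appTop a
  have hfin : ∀ U : C.affineOpens, ∃ s : Finset Γ(Y, ⊤),
      Ideal.span (Set.range fun a => C.presheaf.map (homOfLE (le_top : U.1 ≤ ⊤)).op (δ a)) ≤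
        Ideal.span ((fun a => C.presheaf.map (homOfLE (le_top : U.1 ≤ ⊤)).op (δ a)) '' ↑s) := by
    intro U
    have : IsNoetherianRing Γ(C, U.1) := IsLocallyNoetherian.component_noetherian U
    obtain ⟨t, hts, ht⟩ := (Submodule.fg_span_iff_fg_span_finset_subset _).mp
      (IsNoetherian.noetherian (Ideal.span (Set.range fun a => C.presheaf.map (homOfLE (le_top : U.1 ≤ ⊤)).op (δ a))))
    rw [← Set.image_univ] at hts
    obtain ⟨s, -, hs⟩ := Finset.subset_set_image_iff.mp hts
    refine ⟨s, le_of_eq (ht.trans ?_)⟩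
    rw [← hs, Finset.coe_image]
  choose s hs using hfin
  obtain ⟨S₀, hS₀⟩ := isCompact_univ.elim_finite_subcover (fun U : C.affineOpens => (U.1 : Set C))
    (fun U => U.1.isOpen) (fun x _ => by
      obtain ⟨U, hU, hxU, -⟩ := exists_isAffineOpen_mem_and_subset (show x ∈ (⊤ : C.Opens) from trivial)
      exact Set.mem_iUnion.mpr ⟨⟨U, hU⟩, hxU⟩)
  refine ⟨S₀.biUnion s, fun {T} w hw => ext_of_isAffine ?_⟩
  ext a
  rw [← sub_eq_zero]
  have hsub : (w ≫ f).appTop a - (w ≫ g).appTop a = w.appTop (δ a) := by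
    simp only [δ, Scheme.Hom.comp_appTop, CommRingCat.comp_apply, map_sub]
  rw [hsub]
  refine TopCat.Sheaf.eq_of_locally_eq' T.sheaf (fun U : S₀ => w ⁻¹ᵁ U.1.1) ⊤ (fun U => homOfLE le_top) ?_ _ _ ?_
  · intro x _
    obtain ⟨U, hU, hxU⟩ := Set.mem_iUnion₂.mp (hS₀ (Set.mem_univ (w x)))
    exact TopologicalSpace.Opens.mem_iSup.mpr ⟨⟨U, hU⟩, hxU⟩
  · intro U
    rw [map_zero]
    let r : Γ(Y, ⊤) → Γ(C, U.1.1) := fun a => C.presheaf.map (homOfLE (le_top : U.1.1 ≤ ⊤)).op (δ a)
    have hnat : ∀ b, T.presheaf.map (homOfLE (le_top : w ⁻¹ᵁ U.1.1 ≤ ⊤)).op (w.appTop (δ b)) = w.app U.1.1 (r b) :=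
      fun b => (congr(($(w.naturality (homOfLE (le_top : U.1.1 ≤ ⊤)).op)).hom (δ b))).symm
    show T.presheaf.map (homOfLE (le_top : w ⁻¹ᵁ U.1.1 ≤ ⊤)).op (w.appTop (δ a)) = 0
    rw [hnat]
    have hle : Ideal.span (r '' ↑(s U.1)) ≤ RingHom.ker (w.app U.1.1).hom := by
      rw [Ideal.span_le]
      rintro _ ⟨b, hb, rfl⟩
      rw [SetLike.mem_coe, RingHom.mem_ker]
      refine (hnat b).symm.trans ?_
      have h0 : w.appTop (δ b) = 0 := by
        have := hw b (Finset.mem_biUnion.mpr ⟨U.1, U.2, hb⟩)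
        simpa only [δ, map_sub, sub_eq_zero, Scheme.Hom.comp_appTop, CommRingCat.comp_apply] using this
      rw [h0, map_zero]
    exact hle (hs U.1 (Ideal.subset_span ⟨a, rfl⟩))

theorem mono_comp_of_test {D : Type*} [Category D] [CartesianMonoidalCategory D] {C H K : D} [GrpObj C]
    [GrpObj H] [GrpObj K] (v : C ⟶ H) [IsMonHom v] [Mono v] (π : H ⟶ K) [IsMonHom π]
    (h : ∀ {T : D} (c : T ⟶ C), c ≫ v ≫ π = c ≫ (1 : C ⟶ H) ≫ π → c ≫ v = c ≫ (1 : C ⟶ H)) : Mono (v ≫ π) :=
  ⟨fun {T} x y hxy => by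
    rw [← mul_inv_eq_one]
    have h1 : (x * y⁻¹) ≫ v ≫ π = 1 := by
      rw [MonObj.mul_comp, GrpObj.inv_comp, hxy, mul_inv_cancel]
    rw [← cancel_mono v, h _ (by rw [h1, MonObj.one_comp, MonObj.comp_one]), MonObj.comp_one, MonObj.one_comp]⟩

variable {k : Type u} [Field k]

open GrpSchLib.AffineHopf in
/-- A monomorphism of an algebraic group into an affine group is a closed immersion. -/
theorem isClosedImmersion_of_mono_affine {C G' : Over (Spec (CommRingCat.of k))} [GrpObj C] [GrpObj G']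
    [IsAffine G'.left] [LocallyOfFiniteType C.hom] [QuasiCompact C.hom] (v : C ⟶ G') [IsMonHom v] [Mono v] :
    IsClosedImmersion v.left := by
  classical
  obtain ⟨A, _, _, ⟨e⟩⟩ := exists_hopf G'
  let a : sp k A ≅ G' := (Grp.forget _).mapIso e
  have : IsMonHom a.inv := e.inv.hom.isMonHom_hom
  have : IsIso a.inv.left := ((Over.forget _).mapIso a).isIso_inv
  let v' := v ≫ a.inv
  have : CompactSpace C.left := QuasiCompact.compactSpace_of_compactSpace C.hom
  have : IsLocallyNoetherian C.left := LocallyOfFiniteType.isLocallyNoetherian C.hom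
  have : IsAffine (sp k A).left := inferInstanceAs (IsAffine (Spec (CommRingCat.of A)))
  obtain ⟨s, hs⟩ := exists_finset_test v'.left ((1 : C ⟶ sp k A).left)
  let ρ : Γ(Spec (CommRingCat.of A), ⊤) →+* A := (Scheme.ΓSpecIso (CommRingCat.of A)).hom.hom
  obtain ⟨B, hsB, hBfg, hB⟩ := GrpSchLib.ProPoints.exists_fg_hopf_of_finset (k := k) (s.image ρ)
  let := GrpSchLib.SubHopf.hopf B hB
  have : Algebra.FiniteType k B := ⟨(Subalgebra.fg_top B).mpr hBfg⟩
  have : LocallyOfFiniteType (sp k B).hom :=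
    (HasRingHomProperty.Spec_iff (P := @LocallyOfFiniteType)).mpr (RingHom.finiteType_algebraMap.mpr inferInstance)
  let incl : B →ₐc[k] A := BialgHom.ofAlgHom B.val (AlgHom.ext fun b => rfl)
    (AlgHom.ext fun b => GrpSchLib.SubHopf.map_comulRes B hB b)
  let π : sp k A ⟶ sp k B := spMap (incl : B →ₐ[k] A)
  let w := v' ≫ π
  have : IsMonHom π := isMonHom_spMap incl
  have : Mono v' := mono_comp _ _
  have : Mono w := mono_comp_of_test v' π fun {T} c h1 => by
    have h2 : c.left ≫ v'.left = c.left ≫ (1 : C ⟶ sp k A).left := by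
      refine hs c.left fun b hb => ?_
      obtain ⟨b', hb'⟩ : ∃ b' : B, (b' : A) = ρ b := ⟨⟨ρ b, hsB (Finset.mem_coe.mpr (Finset.mem_image_of_mem ρ hb))⟩, rfl⟩
      have hπb : π.left.appTop ((Scheme.ΓSpecIso (CommRingCat.of B)).inv b') = b := by
        refine (Scheme.ΓSpecIso (CommRingCat.of A)).commRingCatIsoToRingEquiv.injective ?_
        have e := congr(($(Scheme.ΓSpecIso_naturality (CommRingCat.ofHom (incl : B →ₐ[k] A).toRingHom))).hom
          ((Scheme.ΓSpecIso (CommRingCat.of B)).inv b'))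
        refine e.trans ?_
        show ((Scheme.ΓSpecIso (CommRingCat.of B)).inv ≫ (Scheme.ΓSpecIso (CommRingCat.of B)).hom ≫
          CommRingCat.ofHom (incl : B →ₐ[k] A).toRingHom).hom b' = _
        rw [Iso.inv_hom_id_assoc]
        exact hb'
      rw [← hπb, ← CommRingCat.comp_apply, ← CommRingCat.comp_apply, ← Scheme.Hom.comp_appTop,
        ← Scheme.Hom.comp_appTop, Category.assoc, Category.assoc, ← Over.comp_left, ← Over.comp_left,
        ← Over.comp_left, ← Over.comp_left]
      rw [h1]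
    exact Over.OverMorphism.ext h2
  have : IsSeparated (sp k B).hom := GrpSchLib.HomFinite.isSeparated _
  have : QuasiCompact (w.left ≫ (sp k B).hom) := by rw [Over.w w]; infer_instance
  have : QuasiCompact w.left := QuasiCompact.of_comp w.left (sp k B).hom
  have hw : IsClosedImmersion (v'.left ≫ π.left) := S3036.result k C (sp k B) w
  have : IsSeparated π.left := inferInstanceAs (IsSeparated (Spec.map _))
  have : IsClosedImmersion v'.left := IsClosedImmersion.of_comp v'.left π.left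
  have : v.left = v'.left ≫ inv a.inv.left := by rw [Over.comp_left, Category.assoc, IsIso.hom_inv_id, Category.comp_id]
  rw [this]
  infer_instance

end Groth.Agent.SGAQuot20
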