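import Groth.Agent.AlgSpDec.ActGroupoid
import Groth.Agent.GrpdLib.Pullback
import Groth.Agent.GrpdLib.LargestInv
import Groth.Agent.GrpSchLib.Shear
import Mathlib.CategoryTheory.Limits.Constructions.Over.Connected

/-!
# Cartesian squares for left translations by a subgroup
-/

set_option backward.isDefEq.respectTransparency false
set_option backward.isDefEq.respectTransparency.types false

universe u

open CategoryTheory MonoidalCategory CartesianMonoidalCategory MonObj GrpObj AlgebraicGeometry
open CategoryTheory.Limits (PullbackCone pullback)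

noncomputable section

namespace Groth.Agent.SGAQuot20

variable {S : Scheme.{u}}

/-- Whiskering is a base change along the first projection. -/
theorem isPullback_whiskerRight {A B : Over S} (f : A ⟶ B) (X : Over S) :
    IsPullback (f ▷ X) (fst A X) (fst B X) f := by
  refine ⟨⟨whiskerRight_fst f X⟩, ⟨PullbackCone.IsLimit.mk _ (fun c => lift c.snd (c.fst ≫ snd B X))
    (fun c => ?_) (fun c => lift_fst _ _) (fun c m h₁ h₂ => ?_)⟩⟩
  · apply CartesianMonoidalCategory.hom_ext
    · simp [c.condition]
    · simp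
  · apply CartesianMonoidalCategory.hom_ext
    · rw [lift_fst]; exact h₂
    · rw [lift_snd, ← h₁, Category.assoc, whiskerRight_snd]

theorem isPullback_whiskerRight_left {A B : Over S} (f : A ⟶ B) (X : Over S) :
    IsPullback (f ▷ X).left (fst A X).left (fst B X).left f.left :=
  (isPullback_whiskerRight f X).map (Over.forget S)

/-- Whiskering is a base change along the second projection. -/
theorem isPullback_whiskerLeft {A B : Over S} (X : Over S) (f : A ⟶ B) :
    IsPullback (X ◁ f) (snd X A) (snd X B) f := by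
  refine ⟨⟨whiskerLeft_snd X f⟩, ⟨PullbackCone.IsLimit.mk _ (fun c => lift (c.fst ≫ fst X B) c.snd)
    (fun c => ?_) (fun c => lift_snd _ _) (fun c m h₁ h₂ => ?_)⟩⟩
  · apply CartesianMonoidalCategory.hom_ext
    · simp
    · simp [c.condition]
  · apply CartesianMonoidalCategory.hom_ext
    · rw [lift_fst, ← h₁, Category.assoc, whiskerLeft_fst]
    · rw [lift_snd]; exact h₂

theorem isPullback_whiskerLeft_left {A B : Over S} (X : Over S) (f : A ⟶ B) :
    IsPullback (X ◁ f).left (snd X A).left (snd X B).left f.left :=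
  (isPullback_whiskerLeft X f).map (Over.forget S)

/-- A property holding over an open holds over smaller opens. -/
theorem property_restrict_of_le (P : MorphismProperty Scheme.{u}) [P.IsStableUnderBaseChange]
    {X U : Scheme.{u}} (f : X ⟶ U) {V W : U.Opens} (h : V ≤ W) (hW : P (f ∣_ W)) : P (f ∣_ V) := by
  obtain ⟨a', ha'⟩ := GrpdLib.exists_isPullback_restrict (IsPullback.id_horiz f) (T := V) (U.homOfLE h)
    (by simp)
  exact MorphismProperty.of_isPullback ha' hW

theorem property_restrict_of_isPullback (P : MorphismProperty Scheme.{u}) [P.IsStableUnderBaseChange]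
    {X XR R U : Scheme.{u}} {a : XR ⟶ X} {q : XR ⟶ R} {f : X ⟶ U} {m : R ⟶ U} (h : IsPullback a q f m)
    {W : U.Opens} (hW : P (f ∣_ W)) : P (q ∣_ (m ⁻¹ᵁ W)) := by
  obtain ⟨a', ha'⟩ := GrpdLib.exists_isPullback_restrict h (m ∣_ W) (morphismRestrict_ι m W)
  exact MorphismProperty.of_isPullback ha' hW

variable {F G : Over S} [GrpObj F] [GrpObj G] (u : F ⟶ G) [IsMonHom u]

/-- The action of a subgroup by left translations. -/
def leftAct : AlgGrp.Action F G where
  act := (fst F G ≫ u) * snd F G
  one_act := by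
    rw [MonObj.comp_mul, ← Category.assoc, whiskerRight_fst, whiskerRight_snd, Category.assoc,
      IsMonHom.one_hom, ← leftUnitor_hom]
    simp [toUnit_unique (fst (𝟙_ (Over S)) G) (toUnit _), ← Hom.one_def]
  mul_act := by
    have hμ : μ[F] ≫ u = (fst F F ≫ u) * (snd F F ≫ u) := by
      rw [IsMonHom.mul_hom, Hom.mul_def]
      congr 1

    simp [MonObj.comp_mul, hμ, _root_.mul_assoc]

theorem act_apply {T : Over S} (r : T ⟶ F ⊗ G) :
    r ≫ (leftAct u).act = (r ≫ fst F G ≫ u) * (r ≫ snd F G) :=
  MonObj.comp_mul _ _ _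

/-- The relation defined by a subgroup. -/
abbrev lgpd : Grpd.GroupoidScheme S := AlgSpDec.ActGroupoid.gpd (leftAct u)

theorem free [Mono u] (T : Over S) (g : T ⟶ F) (x : T ⟶ G) (h : lift g x ≫ (leftAct u).act = x) :
    g = toUnit T ≫ η[F] := by
  rw [act_apply, lift_fst_assoc, lift_snd] at h
  rw [← cancel_mono u, Category.assoc, IsMonHom.one_hom, ← Hom.one_def]
  exact mul_eq_right.mp h

theorem mono_j [Mono u] : Mono (lgpd u).j := by
  refine ⟨fun {T} r r' h => ?_⟩
  have ht := congrArg (· ≫ Limits.pullback.fst _ _) h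
  have hs := congrArg (· ≫ Limits.pullback.snd _ _) h
  simp only [Grpd.GroupoidScheme.j, Category.assoc, Limits.pullback.lift_fst, Limits.pullback.lift_snd] at ht hs
  have hw : r' ≫ (F ⊗ G).hom = r ≫ (F ⊗ G).hom := by
    rw [← Over.w (snd F G), ← Category.assoc, ← Category.assoc]
    exact congrArg (· ≫ G.hom) hs.symm
  let a : Over.mk (r ≫ (F ⊗ G).hom) ⟶ F ⊗ G := Over.homMk r rfl
  let b : Over.mk (r ≫ (F ⊗ G).hom) ⟶ F ⊗ G := Over.homMk r' hw
  have e₁ : a ≫ (leftAct u).act = b ≫ (leftAct u).act := Over.OverMorphism.ext ht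
  have e₂ : a ≫ snd F G = b ≫ snd F G := Over.OverMorphism.ext hs
  rw [act_apply, act_apply, e₂] at e₁
  have e₃ : a ≫ fst F G = b ≫ fst F G := by
    rw [← cancel_mono u, Category.assoc, Category.assoc]
    exact mul_right_cancel e₁
  exact congrArg CommaMorphism.left (CartesianMonoidalCategory.hom_ext a b e₃ e₂)

theorem property_s (P : MorphismProperty Scheme.{u}) [P.IsStableUnderBaseChange] (h : P F.hom) :
    P (lgpd u).s :=
  MorphismProperty.pullback_snd (P := P) F.hom G.hom h

theorem property_t (P : MorphismProperty Scheme.{u}) [P.IsStableUnderBaseChange] [P.RespectsIso]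
    (h : P F.hom) : P (lgpd u).t := by
  show P (leftAct u).act.left
  rw [← GrpSchLib.actShear_hom_snd (leftAct u), Over.comp_left, P.cancel_left_of_respectsIso]
  exact property_s u P h

/-- The arrows into a chart, to their source, as a morphism out of a product. -/
def srcPhi {U : Over S} (g : U ⟶ G) : F ⊗ U ⟶ G := (fst F U ≫ u)⁻¹ * (snd F U ≫ g)

theorem exists_srcPhi_iso {U : Over S} (g : U ⟶ G) :
    ∃ e : Limits.pullback (lgpd u).t g.left ≅ (F ⊗ U).left,
      e.hom ≫ (srcPhi u g).left = GrpdLib.srcMap (lgpd u) g.left := by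
  let w : F ⊗ U ⟶ F ⊗ G := lift (fst F U) (srcPhi u g)
  have hw : w ≫ (leftAct u).act = snd F U ≫ g := by
    rw [act_apply, lift_fst_assoc, lift_snd, srcPhi, mul_inv_cancel_left]
  have sq : IsPullback w (snd F U) (leftAct u).act g := by
    refine ⟨⟨hw⟩, ⟨PullbackCone.IsLimit.mk _ (fun c => lift (c.fst ≫ fst F G) c.snd) (fun c => ?_)
      (fun c => lift_snd _ _) (fun c m h₁ h₂ => ?_)⟩⟩
    · apply CartesianMonoidalCategory.hom_ext
      · simp [w]
      · rw [Category.assoc, lift_snd, srcPhi, MonObj.comp_mul, GrpObj.comp_inv, ← Category.assoc (lift _ _),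
          lift_fst, ← Category.assoc (lift _ _), lift_snd, Category.assoc, ← c.condition, act_apply,
          inv_mul_cancel_left]
    · apply CartesianMonoidalCategory.hom_ext
      · rw [lift_fst, ← h₁, Category.assoc, lift_fst]
      · rw [lift_snd]; exact h₂
  have sq' : IsPullback w.left (snd F U).left (lgpd u).t g.left := sq.map (Over.forget S)
  refine ⟨sq'.isoPullback.symm, ?_⟩
  show sq'.isoPullback.inv ≫ (srcPhi u g).left = Limits.pullback.fst _ _ ≫ (snd F G).left
  rw [← sq'.isoPullback_inv_fst, Category.assoc, ← Over.comp_left, lift_snd]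

/-- Inverting the first factor and translating by the second. -/
def divShear {U : Over S} (g : U ⟶ G) : G ⊗ U ≅ G ⊗ U where
  hom := lift ((fst G U)⁻¹ * (snd G U ≫ g)) (snd G U)
  inv := lift ((snd G U ≫ g) * (fst G U)⁻¹) (snd G U)
  hom_inv_id := by
    apply CartesianMonoidalCategory.hom_ext
    · simp [MonObj.comp_mul, GrpObj.comp_inv]
    · simp
  inv_hom_id := by
    apply CartesianMonoidalCategory.hom_ext
    · simp [MonObj.comp_mul, GrpObj.comp_inv]
    · simp

theorem srcPhi_eq {U : Over S} (g : U ⟶ G) : srcPhi u g = (u ▷ U) ≫ (divShear g).hom ≫ fst G U := by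
  simp [srcPhi, divShear, MonObj.comp_mul, GrpObj.comp_inv]

theorem quasiCompact_srcPhi {U : Over S} (g : U ⟶ G) [QuasiCompact u.left] [QuasiCompact U.hom] :
    QuasiCompact (srcPhi u g).left := by
  have : QuasiCompact (u ▷ U).left :=
    MorphismProperty.of_isPullback (P := @QuasiCompact) (isPullback_whiskerRight_left u U).flip ‹_›
  have : IsIso (divShear g).hom.left := ((Over.forget S).mapIso (divShear g)).isIso_hom
  have : QuasiCompact (fst G U).left := MorphismProperty.pullback_fst (P := @QuasiCompact) G.hom U.hom ‹_›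
  rw [srcPhi_eq, Over.comp_left, Over.comp_left]
  infer_instance

end Groth.Agent.SGAQuot20
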